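import Mathlib

set_option autoImplicit false
set_option linter.style.haveILetI false

/-!
# Derangements in finite permutation groups: basic tools (helper4)

Jordan's lemma, the "conjugates of a proper subgroup do not cover" lemma, elementwise notions of
transitivity and semiregularity for subgroups, and counting of conjugacy classes of derangements.
-/

namespace Cfsg.Agent.Lib.H4.Der

open MulAction

/-- **Jordan.** A finite group acting transitively on a finite set with at least two points has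
a fixed-point-free element. -/
theorem exists_der_of_pretransitive {H X : Type*} [Group H] [Finite H] [MulAction H X] [Finite X]
    [IsPretransitive H X] (h2 : 2 ≤ Nat.card X) : ∃ h : H, ∀ x : X, h • x ≠ x := by
  classical
  by_contra hcon
  push Not at hcon
  haveI := Fintype.ofFinite H
  haveI := Fintype.ofFinite X
  haveI : Nonempty X := by
    rw [← Finite.card_pos_iff]; omega
  haveI : ∀ h : H, Fintype (fixedBy X h) := fun h => Fintype.ofFinite _
  haveI : Fintype (Quotient (orbitRel H X)) := Fintype.ofFinite _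
  have hB := MulAction.sum_card_fixedBy_eq_card_orbits_mul_card_group H X
  have h1 : Fintype.card (Quotient (orbitRel H X)) = 1 := by
    have hs : Subsingleton (orbitRel.Quotient H X) :=
      (MulAction.pretransitive_iff_subsingleton_quotient H X).mp inferInstance
    have hn : Nonempty (orbitRel.Quotient H X) := ⟨Quotient.mk'' (Classical.arbitrary X)⟩
    exact Fintype.card_eq_one_iff.mpr ⟨Classical.arbitrary _, fun y => hs.elim _ _⟩
  rw [h1, one_mul] at hB
  have hge : ∀ g : H, 1 ≤ Fintype.card (fixedBy X g) := by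
    intro g
    obtain ⟨ω, hω⟩ := hcon g
    exact Fintype.card_pos_iff.mpr ⟨⟨ω, hω⟩⟩
  have hone : Fintype.card (fixedBy X (1 : H)) = Fintype.card X := by
    apply Fintype.card_of_subtype
    intro x
    simp
  have hsum : ∑ g : H, Fintype.card (fixedBy X g) =
      Fintype.card (fixedBy X (1 : H)) +
        ∑ g ∈ Finset.univ.erase (1 : H), Fintype.card (fixedBy X g) :=
    (Finset.add_sum_erase Finset.univ (fun g : H => Fintype.card (fixedBy X g))
      (Finset.mem_univ (1 : H))).symm
  have hrest : (Finset.univ.erase (1 : H)).card ≤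
      ∑ g ∈ Finset.univ.erase (1 : H), Fintype.card (fixedBy X g) := by
    calc (Finset.univ.erase (1 : H)).card = ∑ g ∈ Finset.univ.erase (1 : H), 1 := by simp
      _ ≤ _ := Finset.sum_le_sum (fun g _ => hge g)
  have hcard : (Finset.univ.erase (1 : H)).card = Fintype.card H - 1 := by
    rw [Finset.card_erase_of_mem (Finset.mem_univ _), Finset.card_univ]
  have hG : 1 ≤ Fintype.card H := Fintype.card_pos
  have hX : Fintype.card X = Nat.card X := (Nat.card_eq_fintype_card).symm
  rw [hsum, hone] at hB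
  omega

/-- In a finite group the conjugates of a proper subgroup do not cover the group. -/
theorem exists_not_mem_conj {K : Type*} [Group K] [Finite K] (H : Subgroup K) (hH : H ≠ ⊤) :
    ∃ g : K, ∀ x : K, x⁻¹ * g * x ∉ H := by
  classical
  have h2 : 2 ≤ Nat.card (K ⧸ H) := by
    have h1 : H.index ≠ 1 := fun h => hH (Subgroup.index_eq_one.mp h)
    have h0 : H.index ≠ 0 := Subgroup.index_ne_zero_of_finite
    have : Nat.card (K ⧸ H) = H.index := rfl
    omega
  obtain ⟨g, hg⟩ := exists_der_of_pretransitive (H := K) (X := K ⧸ H) h2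
  refine ⟨g, fun x hx => hg (x : K ⧸ H) ?_⟩
  rw [MulAction.Quotient.smul_coe, smul_eq_mul]
  rw [QuotientGroup.eq]
  have : (g * x)⁻¹ * x = (x⁻¹ * g * x)⁻¹ := by group
  rw [this]
  exact H.inv_mem hx

/-- Relative version: for subgroups `H < K` of a finite group, some element of `K` has no
`K`-conjugate in `H`. -/
theorem exists_mem_not_mem_conj {G : Type*} [Group G] [Finite G] (H K : Subgroup G)
    (hHK : H ≤ K) (hne : H ≠ K) : ∃ g ∈ K, ∀ x ∈ K, x⁻¹ * g * x ∉ H := by
  have htop : H.subgroupOf K ≠ ⊤ := by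
    intro h
    rw [Subgroup.subgroupOf_eq_top] at h
    exact hne (le_antisymm hHK h)
  obtain ⟨g, hg⟩ := exists_not_mem_conj (H.subgroupOf K) htop
  refine ⟨g.1, g.2, fun x hx hmem => hg ⟨x, hx⟩ ?_⟩
  rw [Subgroup.mem_subgroupOf]
  simpa using hmem

section Perm

variable {G : Type*} [Group G] (Ω : Type*) [MulAction G Ω]

/-- `g` is a derangement: it fixes no point. -/
def IsDer (g : G) : Prop := ∀ ω : Ω, g • ω ≠ ω

/-- Elementwise transitivity of a subgroup. -/
def Trans (N : Subgroup G) : Prop := ∀ a b : Ω, ∃ n ∈ N, n • a = b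

/-- Elementwise semiregularity of a subgroup. -/
def Semireg (N : Subgroup G) : Prop := ∀ n ∈ N, ∀ ω : Ω, n • ω = ω → n = 1

variable {Ω}

theorem isDer_conj {g : G} (x : G) (hg : IsDer Ω g) : IsDer Ω (x * g * x⁻¹) := by
  intro ω h
  apply hg (x⁻¹ • ω)
  calc g • x⁻¹ • ω = (x⁻¹ * (x * g * x⁻¹)) • ω := by
        rw [← mul_smul]; congr 1; group
    _ = x⁻¹ • ((x * g * x⁻¹) • ω) := mul_smul _ _ _
    _ = x⁻¹ • ω := by rw [h]

theorem isDer_of_isConj {g g' : G} (h : IsConj g g') (hg : IsDer Ω g) : IsDer Ω g' := by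
  obtain ⟨x, hx⟩ := isConj_iff.mp h
  rw [← hx]
  exact isDer_conj x hg

theorem IsDer.ne_one [Nonempty Ω] {g : G} (hg : IsDer Ω g) : g ≠ 1 := by
  rintro rfl
  exact hg (Classical.arbitrary Ω) (one_smul _ _)

/-- A subgroup commuting elementwise with a transitive subgroup is semiregular (faithful
action). -/
theorem semireg_of_commute_trans [FaithfulSMul G Ω] {A B : Subgroup G} (hA : Trans Ω A)
    (hAB : ∀ a ∈ A, ∀ b ∈ B, a * b = b * a) : Semireg Ω B := by
  intro b hb ω hω
  apply FaithfulSMul.eq_of_smul_eq_smul (α := Ω)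
  intro ω'
  obtain ⟨a, ha, rfl⟩ := hA ω ω'
  rw [one_smul, ← mul_smul, ← hAB a ha b hb, mul_smul, hω]

/-- A transitive abelian subgroup is semiregular (faithful action). -/
theorem semireg_of_trans_of_comm [FaithfulSMul G Ω] {A : Subgroup G} (hA : Trans Ω A)
    (hc : ∀ a ∈ A, ∀ b ∈ A, a * b = b * a) : Semireg Ω A :=
  semireg_of_commute_trans hA hc

/-- Conjugates of a semiregular subgroup are semiregular. -/
theorem semireg_map_conj {A : Subgroup G} (hA : Semireg Ω A) (g : G) :
    Semireg Ω (A.map (MulAut.conj g).toMonoidHom) := by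
  rintro _ ⟨a, ha, rfl⟩ ω hω
  have hc : (MulAut.conj g).toMonoidHom a = g * a * g⁻¹ := by simp [MulAut.conj_apply]
  rw [hc] at hω
  have h1 : a • (g⁻¹ • ω) = g⁻¹ • ω := by
    calc a • g⁻¹ • ω = (g⁻¹ * (g * a * g⁻¹)) • ω := by
          rw [← mul_smul]; congr 1; group
      _ = g⁻¹ • ((g * a * g⁻¹) • ω) := mul_smul _ _ _
      _ = g⁻¹ • ω := by rw [hω]
  have := hA a ha _ h1
  rw [hc, this]
  group

/-- **Key lemma.** If `a` and `b` commute, `b` lies in a semiregular subgroup and `b ^ orderOf a ≠ 1`,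
then `a * b` is a derangement. -/
theorem isDer_mul_of_commute {B : Subgroup G} (hB : Semireg Ω B) {a b : G} (hb : b ∈ B)
    (hab : a * b = b * a) {p : ℕ} (hap : a ^ p = 1) (hbp : b ^ p ≠ 1) : IsDer Ω (a * b) := by
  intro x hx
  have hcomm : Commute a b := hab
  have h1 : ∀ j : ℕ, a ^ j • x = (b ^ j)⁻¹ • x := by
    intro j
    induction j with
    | zero => simp
    | succ j ih =>
      have hx' : a • x = b⁻¹ • x := by
        have : b⁻¹ • ((a * b) • x) = b⁻¹ • x := by rw [hx]
        rw [← this, hab]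
        simp [mul_smul]
      rw [pow_succ, mul_smul, hx']
      have hc2 : a ^ j * b⁻¹ = b⁻¹ * a ^ j := ((hcomm.pow_left j).inv_right).eq
      rw [← mul_smul, hc2, mul_smul, ih, ← mul_smul, ← mul_inv_rev, ← pow_succ]
  have h2 := h1 p
  rw [hap, one_smul] at h2
  have h3 : b ^ p • x = x := by
    have : b ^ p • ((b ^ p)⁻¹ • x) = b ^ p • x := by rw [← h2]
    rw [← this]
    simp
  exact hbp (hB _ (B.pow_mem hb p) x h3)

end Perm

section Count

variable {G : Type*} [Group G] [Finite G] (Ω : Type*) [MulAction G Ω]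

/-- The type of conjugacy classes of derangements, as in the frozen statements. -/
abbrev DerClass : Type _ :=
  {c : ConjClasses G // ∃ g : G, ConjClasses.mk g = c ∧ ∀ ω : Ω, g • ω ≠ ω}

variable {Ω}

/-- Two non-conjugate derangements give at least two classes. -/
theorem two_le_card_derClass {d₁ d₂ : G} (h₁ : IsDer Ω d₁) (h₂ : IsDer Ω d₂)
    (h12 : ¬ IsConj d₁ d₂) : 2 ≤ Nat.card (DerClass (G := G) Ω) := by
  classical
  let c₁ : DerClass (G := G) Ω := ⟨ConjClasses.mk d₁, d₁, rfl, h₁⟩
  let c₂ : DerClass (G := G) Ω := ⟨ConjClasses.mk d₂, d₂, rfl, h₂⟩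
  have hne : c₁ ≠ c₂ := by
    intro h
    have := congrArg Subtype.val h
    exact h12 (ConjClasses.mk_eq_mk_iff_isConj.mp this)
  haveI : Finite (DerClass (G := G) Ω) := Subtype.finite
  by_contra hlt
  have hle : Nat.card (DerClass (G := G) Ω) ≤ 1 := by omega
  have hs : Subsingleton (DerClass (G := G) Ω) := by
    rw [← Finite.card_le_one_iff_subsingleton]
    exact hle
  exact hne (hs.elim _ _)

/-- Three pairwise non-conjugate derangements give at least three classes. -/
theorem three_le_card_derClass {d₁ d₂ d₃ : G} (h₁ : IsDer Ω d₁) (h₂ : IsDer Ω d₂)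
    (h₃ : IsDer Ω d₃) (h12 : ¬ IsConj d₁ d₂) (h13 : ¬ IsConj d₁ d₃) (h23 : ¬ IsConj d₂ d₃) :
    3 ≤ Nat.card (DerClass (G := G) Ω) := by
  classical
  let c₁ : DerClass (G := G) Ω := ⟨ConjClasses.mk d₁, d₁, rfl, h₁⟩
  let c₂ : DerClass (G := G) Ω := ⟨ConjClasses.mk d₂, d₂, rfl, h₂⟩
  let c₃ : DerClass (G := G) Ω := ⟨ConjClasses.mk d₃, d₃, rfl, h₃⟩
  have hne12 : c₁ ≠ c₂ := fun h =>
    h12 (ConjClasses.mk_eq_mk_iff_isConj.mp (congrArg Subtype.val h))
  have hne13 : c₁ ≠ c₃ := fun h =>
    h13 (ConjClasses.mk_eq_mk_iff_isConj.mp (congrArg Subtype.val h))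
  have hne23 : c₂ ≠ c₃ := fun h =>
    h23 (ConjClasses.mk_eq_mk_iff_isConj.mp (congrArg Subtype.val h))
  haveI : Finite (DerClass (G := G) Ω) := Subtype.finite
  haveI := Fintype.ofFinite (DerClass (G := G) Ω)
  rw [Nat.card_eq_fintype_card]
  have hsub : ({c₁, c₂, c₃} : Finset (DerClass (G := G) Ω)) ⊆ Finset.univ := Finset.subset_univ _
  have hcard : ({c₁, c₂, c₃} : Finset (DerClass (G := G) Ω)).card = 3 := by
    rw [Finset.card_insert_of_notMem, Finset.card_insert_of_notMem, Finset.card_singleton]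
    · simpa using hne23
    · simp only [Finset.mem_insert, Finset.mem_singleton, not_or]
      exact ⟨hne12, hne13⟩
  calc 3 = ({c₁, c₂, c₃} : Finset (DerClass (G := G) Ω)).card := hcard.symm
    _ ≤ Finset.univ.card := Finset.card_le_card hsub
    _ = _ := Finset.card_univ

/-- If there are at most two classes of derangements, two of any three derangements are
conjugate. -/
theorem isConj_of_card_le_two (hκ : Nat.card (DerClass (G := G) Ω) ≤ 2) {d₁ d₂ d₃ : G}
    (h₁ : IsDer Ω d₁) (h₂ : IsDer Ω d₂) (h₃ : IsDer Ω d₃) :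
    IsConj d₁ d₂ ∨ IsConj d₁ d₃ ∨ IsConj d₂ d₃ := by
  by_contra h
  push Not at h
  have := three_le_card_derClass h₁ h₂ h₃ h.1 h.2.1 h.2.2
  omega

/-- If there is at most one class of derangements, any two derangements are conjugate. -/
theorem isConj_of_card_le_one (hκ : Nat.card (DerClass (G := G) Ω) ≤ 1) {d₁ d₂ : G}
    (h₁ : IsDer Ω d₁) (h₂ : IsDer Ω d₂) : IsConj d₁ d₂ := by
  by_contra h
  have := two_le_card_derClass h₁ h₂ h
  omega

/-- Elements of different orders are not conjugate. -/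
theorem not_isConj_of_orderOf_ne {a b : G} (h : orderOf a ≠ orderOf b) : ¬ IsConj a b := by
  intro hc
  obtain ⟨x, hx⟩ := isConj_iff.mp hc
  apply h
  rw [← hx]
  have : x * a * x⁻¹ = (MulAut.conj x) a := by simp [MulAut.conj_apply]
  rw [this, MulEquiv.orderOf_eq]

end Count

end Cfsg.Agent.Lib.H4.Der
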