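import Mathlib
import Cfsg.Agent.Lib.H4.Der.Basic

set_option autoImplicit false
set_option linter.style.haveILetI false

/-!
# Structure of a nonabelian minimal normal subgroup, elementwise (helper4)

For a minimal normal subgroup `M` of a finite group `G` and a minimal `M`-invariant subgroup
`T ≤ M`, the `G`-conjugates of `T` pairwise commute, `M = T * C_M(T)`, and if `M` is nonabelian
then `T ∩ C_M(T) = 1`.  We also define conjugation-equivariant "support" invariants.
-/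

namespace Cfsg.Agent.Lib.H4.Der

variable {G : Type*} [Group G]

/-- the conjugate `g T g⁻¹` -/
def cj (g : G) (T : Subgroup G) : Subgroup G := T.map (MulAut.conj g).toMonoidHom

theorem mem_cj {g x : G} {T : Subgroup G} : x ∈ cj g T ↔ g⁻¹ * x * g ∈ T := by
  unfold cj
  rw [Subgroup.mem_map]
  constructor
  · rintro ⟨t, ht, rfl⟩
    have : g⁻¹ * (MulAut.conj g).toMonoidHom t * g = t := by
      simp only [MulEquiv.toMonoidHom_eq_coe, MonoidHom.coe_coe, MulAut.conj_apply]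
      group
    rw [this]; exact ht
  · intro h
    refine ⟨g⁻¹ * x * g, h, ?_⟩
    simp [MulAut.conj_apply]
    group

theorem conj_mem_cj {g t : G} {T : Subgroup G} (ht : t ∈ T) : g * t * g⁻¹ ∈ cj g T := by
  rw [mem_cj]
  have : g⁻¹ * (g * t * g⁻¹) * g = t := by group
  rw [this]; exact ht

theorem cj_one (T : Subgroup G) : cj 1 T = T := by
  ext x; rw [mem_cj]; simp

theorem cj_cj (g h : G) (T : Subgroup G) : cj g (cj h T) = cj (g * h) T := by
  ext x
  rw [mem_cj, mem_cj, mem_cj]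
  have : h⁻¹ * (g⁻¹ * x * g) * h = (g * h)⁻¹ * x * (g * h) := by group
  rw [this]

theorem cj_inv_cj (g : G) (T : Subgroup G) : cj g⁻¹ (cj g T) = T := by
  rw [cj_cj, inv_mul_cancel, cj_one]

theorem card_cj (g : G) (T : Subgroup G) : Nat.card (cj g T) = Nat.card T := by
  unfold cj
  exact Subgroup.card_map_of_injective (MulAut.conj g).injective

theorem cj_le {M : Subgroup G} (hM : M.Normal) {T : Subgroup G} (h : T ≤ M) (g : G) :
    cj g T ≤ M := by
  intro x hx
  rw [mem_cj] at hx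
  have := hM.conj_mem _ (h hx) g
  have h2 : g * (g⁻¹ * x * g) * g⁻¹ = x := by group
  rwa [h2] at this

theorem cj_ne_bot {T : Subgroup G} (h : T ≠ ⊥) (g : G) : cj g T ≠ ⊥ := by
  intro hb
  apply h
  rw [← cj_inv_cj g T, hb]
  ext x
  rw [mem_cj, Subgroup.mem_bot, Subgroup.mem_bot]
  constructor
  · intro h1
    have : x = g⁻¹ * (g⁻¹⁻¹ * x * g⁻¹) * g⁻¹⁻¹ := by group
    rw [this, h1]; group
  · rintro rfl; group

/-- membership in a centralizer is conjugation equivariant -/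
theorem conj_mem_centralizer_cj {x d : G} {S : Subgroup G}
    (h : d ∈ Subgroup.centralizer (S : Set G)) :
    x * d * x⁻¹ ∈ Subgroup.centralizer ((cj x S : Subgroup G) : Set G) := by
  rw [Subgroup.mem_centralizer_iff] at h ⊢
  intro y hy
  have hy' : x⁻¹ * y * x ∈ S := mem_cj.mp hy
  have := h _ hy'
  calc y * (x * d * x⁻¹) = x * ((x⁻¹ * y * x) * d) * x⁻¹ := by group
    _ = x * (d * (x⁻¹ * y * x)) * x⁻¹ := by rw [this]
    _ = x * d * x⁻¹ * y := by group

theorem conj_mem_centralizer_cj_iff {x d : G} {S : Subgroup G} :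
    x * d * x⁻¹ ∈ Subgroup.centralizer ((cj x S : Subgroup G) : Set G) ↔
      d ∈ Subgroup.centralizer (S : Set G) := by
  constructor
  · intro h
    have := conj_mem_centralizer_cj (x := x⁻¹) h
    rw [cj_inv_cj] at this
    have h2 : x⁻¹ * (x * d * x⁻¹) * x⁻¹⁻¹ = d := by group
    rwa [h2] at this
  · exact conj_mem_centralizer_cj

/-- `M` is a minimal normal subgroup of `G`. -/
structure MinNormal (M : Subgroup G) : Prop where
  normal : M.Normal
  ne_bot : M ≠ ⊥
  min : ∀ N : Subgroup G, N.Normal → N ≠ ⊥ → N ≤ M → N = M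

theorem exists_minNormal [Finite G] [Nontrivial G] : ∃ M : Subgroup G, MinNormal M := by
  classical
  have hex : ∃ n : ℕ, ∃ N : Subgroup G, N.Normal ∧ N ≠ ⊥ ∧ Nat.card N = n :=
    ⟨_, ⊤, inferInstance, top_ne_bot, rfl⟩
  obtain ⟨M, hMn, hMb, hMc⟩ := Nat.find_spec hex
  refine ⟨M, hMn, hMb, fun N hNn hNb hNM => ?_⟩
  have h1 : Nat.find hex ≤ Nat.card N := Nat.find_min' hex ⟨N, hNn, hNb, rfl⟩
  have h2 : Nat.card N ≤ Nat.card M := Subgroup.card_le_of_le hNM
  exact Subgroup.eq_of_le_of_card_ge hNM (by omega)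

/-- `T` is a minimal nontrivial `M`-invariant subgroup of `M`. -/
structure RelMin (M T : Subgroup G) : Prop where
  le : T ≤ M
  ne_bot : T ≠ ⊥
  norm : ∀ m ∈ M, ∀ t ∈ T, m * t * m⁻¹ ∈ T
  min : ∀ S : Subgroup G, S ≤ T → S ≠ ⊥ → (∀ m ∈ M, ∀ s ∈ S, m * s * m⁻¹ ∈ S) → S = T

theorem exists_relMin [Finite G] {M : Subgroup G} (hM : M ≠ ⊥) : ∃ T : Subgroup G, RelMin M T := by
  classical
  have hex : ∃ n : ℕ, ∃ S : Subgroup G, S ≤ M ∧ S ≠ ⊥ ∧
      (∀ m ∈ M, ∀ s ∈ S, m * s * m⁻¹ ∈ S) ∧ Nat.card S = n :=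
    ⟨_, M, le_refl _, hM, fun m hm s hs => M.mul_mem (M.mul_mem hm hs) (M.inv_mem hm), rfl⟩
  obtain ⟨T, hTM, hTb, hTn, hTc⟩ := Nat.find_spec hex
  refine ⟨T, hTM, hTb, hTn, fun S hST hSb hSn => ?_⟩
  have h1 : Nat.find hex ≤ Nat.card S :=
    Nat.find_min' hex ⟨S, hST.trans hTM, hSb, hSn, rfl⟩
  have h2 : Nat.card S ≤ Nat.card T := Subgroup.card_le_of_le hST
  exact Subgroup.eq_of_le_of_card_ge hST (by omega)

namespace RelMin

variable {M T : Subgroup G}

/-- conjugates of a minimal invariant subgroup are minimal invariant -/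
theorem cj (hT : RelMin M T) (hM : M.Normal) (g : G) : RelMin M (cj g T) := by
  refine ⟨cj_le hM hT.le g, cj_ne_bot hT.ne_bot g, ?_, ?_⟩
  · intro m hm t ht
    rw [mem_cj] at ht ⊢
    have hm' : g⁻¹ * m * g ∈ M := by
      have := hM.conj_mem m hm g⁻¹
      simpa using this
    have := hT.norm _ hm' _ ht
    have h2 : g⁻¹ * m * g * (g⁻¹ * t * g) * (g⁻¹ * m * g)⁻¹ = g⁻¹ * (m * t * m⁻¹) * g := by group
    rwa [h2] at this
  · intro S hS hSb hSn
    have h1 : Der.cj g⁻¹ S = T := by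
      apply hT.min
      · intro x hx
        rw [mem_cj] at hx
        have := hS hx
        rw [mem_cj] at this
        have h2 : g⁻¹ * (g⁻¹⁻¹ * x * g⁻¹) * g = x := by group
        rwa [h2] at this
      · exact cj_ne_bot hSb _
      · intro m hm s hs
        rw [mem_cj] at hs ⊢
        have hm' : g * m * g⁻¹ ∈ M := hM.conj_mem m hm g
        have := hSn _ hm' _ hs
        have h2 : g * m * g⁻¹ * (g⁻¹⁻¹ * s * g⁻¹) * (g * m * g⁻¹)⁻¹ =
            g⁻¹⁻¹ * (m * s * m⁻¹) * g⁻¹ := by group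
        rwa [h2] at this
    rw [← h1, cj_cj, mul_inv_cancel, cj_one]

end RelMin

end Cfsg.Agent.Lib.H4.Der
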