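import Mathlib
import Cfsg.Agent.Lib.H4.Der.MinNormal

set_option autoImplicit false
set_option linter.style.haveILetI false

/-!
# Nonabelian minimal normal subgroups: commuting conjugates and support invariants (helper4)
-/

namespace Cfsg.Agent.Lib.H4.Der

variable {G : Type*} [Group G]

/-- `C_M(T)` -/
def cen (M T : Subgroup G) : Subgroup G := M ⊓ Subgroup.centralizer (T : Set G)

theorem mem_cen {M T : Subgroup G} {x : G} :
    x ∈ cen M T ↔ x ∈ M ∧ ∀ t ∈ T, t * x = x * t := by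
  unfold cen
  rw [Subgroup.mem_inf, Subgroup.mem_centralizer_iff]
  rfl

/-- The context: `M` nonabelian minimal normal, `T` minimal `M`-invariant in `M`. -/
structure Ctx (M T : Subgroup G) : Prop where
  hM : MinNormal M
  hT : RelMin M T
  nonab : ¬ ∀ a ∈ M, ∀ b ∈ M, a * b = b * a

namespace Ctx

variable {M T : Subgroup G} (h : Ctx M T)
include h

theorem cjctx (g : G) : Ctx M (cj g T) := ⟨h.hM, h.hT.cj h.hM.normal g, h.nonab⟩

theorem inf_eq_bot {g : G} (hne : cj g T ≠ T) : T ⊓ cj g T = ⊥ := by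
  by_contra hI
  have hS := h.hT.cj h.hM.normal g
  have h1 : T ⊓ cj g T = T := by
    apply h.hT.min (T ⊓ cj g T) inf_le_left hI
    intro m hm s hs
    rw [Subgroup.mem_inf] at hs ⊢
    exact ⟨h.hT.norm m hm s hs.1, hS.norm m hm s hs.2⟩
  have h2 : T ≤ cj g T := by
    have : T ⊓ cj g T ≤ cj g T := inf_le_right
    rwa [h1] at this
  exact hne (hS.min T h2 h.hT.ne_bot h.hT.norm).symm

theorem commute {g : G} (hne : cj g T ≠ T) {a b : G} (ha : a ∈ T) (hb : b ∈ cj g T) :
    a * b = b * a := by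
  have hS := h.hT.cj h.hM.normal g
  have hbM : b ∈ M := hS.le hb
  have haM : a ∈ M := h.hT.le ha
  have h1 : a * b * a⁻¹ * b⁻¹ ∈ T := by
    have := h.hT.norm b hbM a⁻¹ (T.inv_mem ha)
    have h2 : a * b * a⁻¹ * b⁻¹ = a * (b * a⁻¹ * b⁻¹) := by group
    rw [h2]
    exact T.mul_mem ha this
  have h2 : a * b * a⁻¹ * b⁻¹ ∈ cj g T := by
    have := hS.norm a haM b hb
    exact (cj g T).mul_mem this ((cj g T).inv_mem hb)
  have h3 : a * b * a⁻¹ * b⁻¹ ∈ T ⊓ cj g T := Subgroup.mem_inf.mpr ⟨h1, h2⟩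
  rw [h.inf_eq_bot hne, Subgroup.mem_bot] at h3
  calc a * b = (a * b * a⁻¹ * b⁻¹) * (b * a) := by group
    _ = b * a := by rw [h3, one_mul]

/-- two distinct conjugates commute elementwise -/
theorem commute' {g g' : G} (hne : cj g T ≠ cj g' T) {a b : G} (ha : a ∈ cj g T)
    (hb : b ∈ cj g' T) : a * b = b * a := by
  have hc := h.cjctx g
  have hne' : cj (g' * g⁻¹) (cj g T) ≠ cj g T := by
    rw [cj_cj, inv_mul_cancel_right]
    exact hne.symm
  have hb' : b ∈ cj (g' * g⁻¹) (cj g T) := by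
    rw [cj_cj, inv_mul_cancel_right]
    exact hb
  exact hc.commute hne' ha hb'

theorem normalClosure_eq : Subgroup.normalClosure (T : Set G) = M := by
  apply h.hM.min _ Subgroup.normalClosure_normal
  · intro hb
    apply h.hT.ne_bot
    rw [eq_bot_iff, ← hb]
    exact Subgroup.le_normalClosure
  · haveI := h.hM.normal
    exact Subgroup.normalClosure_le_normal h.hT.le

/-- every element of `M` is `t * c` with `t ∈ T`, `c ∈ C_M(T)` -/
theorem decomp {m : G} (hm : m ∈ M) : ∃ t ∈ T, ∃ c ∈ cen M T, m = t * c := by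
  rw [← h.normalClosure_eq] at hm
  unfold Subgroup.normalClosure at hm
  induction hm using Subgroup.closure_induction with
  | mem x hx =>
    rw [Group.mem_conjugatesOfSet_iff] at hx
    obtain ⟨t, ht, hconj⟩ := hx
    obtain ⟨g, rfl⟩ := isConj_iff.mp hconj
    have hx' : g * t * g⁻¹ ∈ cj g T := conj_mem_cj ht
    by_cases hne : cj g T = T
    · exact ⟨_, hne ▸ hx', 1, Subgroup.one_mem _, (mul_one _).symm⟩
    · refine ⟨1, T.one_mem, g * t * g⁻¹, ?_, (one_mul _).symm⟩
      rw [mem_cen]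
      exact ⟨cj_le h.hM.normal h.hT.le g hx', fun a ha => h.commute hne ha hx'⟩
  | one => exact ⟨1, T.one_mem, 1, Subgroup.one_mem _, (one_mul _).symm⟩
  | mul x y _ _ hx hy =>
    obtain ⟨t, ht, c, hc, rfl⟩ := hx
    obtain ⟨t', ht', c', hc', rfl⟩ := hy
    refine ⟨t * t', T.mul_mem ht ht', c * c', Subgroup.mul_mem _ hc hc', ?_⟩
    have := (mem_cen.mp hc).2 t' ht'
    calc t * c * (t' * c') = t * (c * t') * c' := by group
      _ = t * (t' * c) * c' := by rw [this]
      _ = t * t' * (c * c') := by group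
  | inv x _ hx =>
    obtain ⟨t, ht, c, hc, rfl⟩ := hx
    refine ⟨t⁻¹, T.inv_mem ht, c⁻¹, Subgroup.inv_mem _ hc, ?_⟩
    have := (mem_cen.mp hc).2 t ht
    have h2 : c⁻¹ * t⁻¹ = t⁻¹ * c⁻¹ := by
      rw [← mul_inv_rev, ← mul_inv_rev, this]
    rw [mul_inv_rev, h2]

/-- `Z(M) = 1` -/
theorem center_M {z : G} (hz : z ∈ M) (hc : ∀ m ∈ M, m * z = z * m) : z = 1 := by
  by_contra hz1
  let Z : Subgroup G := M ⊓ Subgroup.centralizer (M : Set G)
  have hZn : Z.Normal := by
    constructor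
    intro n hn g
    rw [Subgroup.mem_inf, Subgroup.mem_centralizer_iff] at hn ⊢
    refine ⟨h.hM.normal.conj_mem n hn.1 g, fun m hm => ?_⟩
    have hm' : g⁻¹ * m * g ∈ M := by
      have := h.hM.normal.conj_mem m hm g⁻¹
      simpa using this
    have := hn.2 _ hm'
    calc m * (g * n * g⁻¹) = g * ((g⁻¹ * m * g) * n) * g⁻¹ := by group
      _ = g * (n * (g⁻¹ * m * g)) * g⁻¹ := by rw [this]
      _ = g * n * g⁻¹ * m := by group
  have hZb : Z ≠ ⊥ := by
    intro hb
    have : z ∈ Z := by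
      rw [Subgroup.mem_inf, Subgroup.mem_centralizer_iff]
      exact ⟨hz, hc⟩
    rw [hb, Subgroup.mem_bot] at this
    exact hz1 this
  have hZM : Z = M := h.hM.min Z hZn hZb inf_le_left
  apply h.nonab
  intro a ha b hb
  have : b ∈ Z := hZM ▸ hb
  rw [Subgroup.mem_inf, Subgroup.mem_centralizer_iff] at this
  exact this.2 a ha

/-- `T` is nonabelian -/
theorem T_nonab : ¬ ∀ a ∈ T, ∀ b ∈ T, a * b = b * a := by
  intro hab
  obtain ⟨t, ht, ht1⟩ : ∃ t ∈ T, t ≠ 1 := by
    by_contra hcon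
    push Not at hcon
    apply h.hT.ne_bot
    rw [eq_bot_iff]
    intro x hx
    rw [Subgroup.mem_bot]
    exact hcon x hx
  apply ht1
  apply h.center_M (h.hT.le ht)
  intro m hm
  obtain ⟨t', ht', c, hc, rfl⟩ := h.decomp hm
  have h1 := (mem_cen.mp hc).2 t ht
  have h2 := hab t' ht' t ht
  calc t' * c * t = t' * (c * t) := by group
    _ = t' * (t * c) := by rw [h1]
    _ = (t' * t) * c := by group
    _ = (t * t') * c := by rw [h2]
    _ = t * (t' * c) := by group

/-- `Z(T) = 1` -/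
theorem center_T {z : G} (hz : z ∈ T) (hc : ∀ t ∈ T, t * z = z * t) : z = 1 := by
  by_contra hz1
  let Z : Subgroup G := T ⊓ Subgroup.centralizer (T : Set G)
  have hZb : Z ≠ ⊥ := by
    intro hb
    have : z ∈ Z := by
      rw [Subgroup.mem_inf, Subgroup.mem_centralizer_iff]
      exact ⟨hz, hc⟩
    rw [hb, Subgroup.mem_bot] at this
    exact hz1 this
  have hZn : ∀ m ∈ M, ∀ s ∈ Z, m * s * m⁻¹ ∈ Z := by
    intro m hm s hs
    rw [Subgroup.mem_inf, Subgroup.mem_centralizer_iff] at hs ⊢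
    refine ⟨h.hT.norm m hm s hs.1, fun t ht => ?_⟩
    have ht' : m⁻¹ * t * m ∈ T := by
      have := h.hT.norm m⁻¹ (M.inv_mem hm) t ht
      simpa using this
    have := hs.2 _ ht'
    calc t * (m * s * m⁻¹) = m * ((m⁻¹ * t * m) * s) * m⁻¹ := by group
      _ = m * (s * (m⁻¹ * t * m)) * m⁻¹ := by rw [this]
      _ = m * s * m⁻¹ * t := by group
  have hZT : Z = T := h.hT.min Z inf_le_left hZb hZn
  apply h.T_nonab
  intro a ha b hb
  have : b ∈ Z := hZT ▸ hb
  rw [Subgroup.mem_inf, Subgroup.mem_centralizer_iff] at this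
  exact this.2 a ha

/-- `T ∩ C_M(T) = 1` -/
theorem inter_cen {x : G} (hx : x ∈ T) (hc : x ∈ cen M T) : x = 1 :=
  h.center_T hx (mem_cen.mp hc).2

/-- `t * c` centralizes `T` iff `t = 1` -/
theorem mul_mem_centralizer_T_iff {t c : G} (ht : t ∈ T) (hc : c ∈ cen M T) :
    t * c ∈ Subgroup.centralizer (T : Set G) ↔ t = 1 := by
  have hcc : c ∈ Subgroup.centralizer (T : Set G) := by
    rw [Subgroup.mem_centralizer_iff]; exact (mem_cen.mp hc).2
  constructor
  · intro hmem
    have : t ∈ Subgroup.centralizer (T : Set G) := by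
      have := Subgroup.mul_mem _ hmem (Subgroup.inv_mem _ hcc)
      simpa using this
    rw [Subgroup.mem_centralizer_iff] at this
    exact h.center_T ht this
  · rintro rfl
    rw [one_mul]; exact hcc

omit h in
/-- for a conjugate `S ≠ T`, `t * c` centralizes `S` iff `c` does -/
theorem mul_mem_centralizer_S_iff (h : Ctx M T) {g : G} (hne : cj g T ≠ T) {t c : G}
    (ht : t ∈ T) :
    t * c ∈ Subgroup.centralizer ((cj g T : Subgroup G) : Set G) ↔
      c ∈ Subgroup.centralizer ((cj g T : Subgroup G) : Set G) := by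
  have htc : t ∈ Subgroup.centralizer ((cj g T : Subgroup G) : Set G) := by
    rw [Subgroup.mem_centralizer_iff]
    intro b hb
    exact (h.commute hne ht hb).symm
  constructor
  · intro hmem
    have := Subgroup.mul_mem _ (Subgroup.inv_mem _ htc) hmem
    simpa using this
  · intro hmem
    exact Subgroup.mul_mem _ htc hmem

/-- a nonidentity element of `C_M(T)` fails to centralize some conjugate `S ≠ T` -/
theorem exists_not_centralize {c : G} (hc : c ∈ cen M T) (hc1 : c ≠ 1) :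
    ∃ g : G, cj g T ≠ T ∧ c ∉ Subgroup.centralizer ((cj g T : Subgroup G) : Set G) := by
  by_contra hcon
  push Not at hcon
  apply hc1
  apply h.center_M (mem_cen.mp hc).1
  intro m hm
  rw [← h.normalClosure_eq] at hm
  unfold Subgroup.normalClosure at hm
  induction hm using Subgroup.closure_induction with
  | mem x hx =>
    rw [Group.mem_conjugatesOfSet_iff] at hx
    obtain ⟨t, ht, hconj⟩ := hx
    obtain ⟨g, rfl⟩ := isConj_iff.mp hconj
    have hx' : g * t * g⁻¹ ∈ cj g T := conj_mem_cj ht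
    by_cases hne : cj g T = T
    · exact (mem_cen.mp hc).2 _ (hne ▸ hx')
    · have := hcon g hne
      rw [Subgroup.mem_centralizer_iff] at this
      exact this _ hx'
  | one => simp
  | mul x y _ _ hx hy =>
    calc x * y * c = x * (y * c) := by group
      _ = x * (c * y) := by rw [hy]
      _ = (x * c) * y := by group
      _ = (c * x) * y := by rw [hx]
      _ = c * (x * y) := by group
  | inv x _ hx =>
    calc x⁻¹ * c = x⁻¹ * (c * x) * x⁻¹ := by group
      _ = x⁻¹ * (x * c) * x⁻¹ := by rw [hx]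
      _ = c * x⁻¹ := by group

end Ctx

/-! ### support invariants -/

/-- conjugates `S` of `T` not centralized by `d` -/
def supp (T : Subgroup G) (d : G) : Set (Subgroup G) :=
  {S | (∃ g : G, S = cj g T) ∧ d ∉ Subgroup.centralizer (S : Set G)}

/-- conjugates `S` of `T` on which `d` induces an automorphism killed by `p` but nontrivial -/
def psupp (T : Subgroup G) (p : ℕ) (d : G) : Set (Subgroup G) :=
  {S | (∃ g : G, S = cj g T) ∧ d ^ p ∈ Subgroup.centralizer (S : Set G) ∧
    d ∉ Subgroup.centralizer (S : Set G)}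

theorem cj_injective (x : G) : Function.Injective (cj x : Subgroup G → Subgroup G) := by
  intro S S' hSS
  rw [← cj_inv_cj x S, ← cj_inv_cj x S', hSS]

theorem supp_conj (T : Subgroup G) (x d : G) : supp T (x * d * x⁻¹) = cj x '' supp T d := by
  ext S
  constructor
  · rintro ⟨⟨g, rfl⟩, hd⟩
    refine ⟨cj (x⁻¹ * g) T, ⟨⟨_, rfl⟩, ?_⟩, ?_⟩
    · intro hmem
      apply hd
      have := conj_mem_centralizer_cj (x := x) hmem
      rwa [cj_cj, mul_inv_cancel_left] at this
    · rw [cj_cj, mul_inv_cancel_left]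
  · rintro ⟨S', ⟨⟨g, rfl⟩, hd⟩, rfl⟩
    refine ⟨⟨x * g, (cj_cj x g T)⟩, ?_⟩
    rw [conj_mem_centralizer_cj_iff]
    exact hd

theorem psupp_conj (T : Subgroup G) (p : ℕ) (x d : G) :
    psupp T p (x * d * x⁻¹) = cj x '' psupp T p d := by
  have hpow : (x * d * x⁻¹) ^ p = x * d ^ p * x⁻¹ := conj_pow
  ext S
  constructor
  · rintro ⟨⟨g, rfl⟩, hdp, hd⟩
    refine ⟨cj (x⁻¹ * g) T, ⟨⟨_, rfl⟩, ?_, ?_⟩, ?_⟩
    · rw [hpow] at hdp
      have h1 : cj g T = cj x (cj (x⁻¹ * g) T) := by rw [cj_cj, mul_inv_cancel_left]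
      rw [h1, conj_mem_centralizer_cj_iff] at hdp
      exact hdp
    · intro hmem
      apply hd
      have := conj_mem_centralizer_cj (x := x) hmem
      rwa [cj_cj, mul_inv_cancel_left] at this
    · rw [cj_cj, mul_inv_cancel_left]
  · rintro ⟨S', ⟨⟨g, rfl⟩, hdp, hd⟩, rfl⟩
    refine ⟨⟨x * g, (cj_cj x g T)⟩, ?_, ?_⟩
    · rw [hpow, conj_mem_centralizer_cj_iff]
      exact hdp
    · rw [conj_mem_centralizer_cj_iff]
      exact hd

theorem ncard_supp_of_isConj (T : Subgroup G) {d d' : G} (hc : IsConj d d') :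
    (supp T d).ncard = (supp T d').ncard := by
  obtain ⟨x, rfl⟩ := isConj_iff.mp hc
  rw [supp_conj, Set.ncard_image_of_injective _ (cj_injective x)]

theorem ncard_psupp_of_isConj (T : Subgroup G) (p : ℕ) {d d' : G} (hc : IsConj d d') :
    (psupp T p d).ncard = (psupp T p d').ncard := by
  obtain ⟨x, rfl⟩ := isConj_iff.mp hc
  rw [psupp_conj, Set.ncard_image_of_injective _ (cj_injective x)]

end Cfsg.Agent.Lib.H4.Der
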