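import Mathlib
import Cfsg.Agent.Lib.H4.Der.Basic

set_option autoImplicit false
set_option linter.style.haveILetI false

/-!
# Derangements and an abelian regular normal subgroup (helper4)
-/

namespace Cfsg.Agent.Lib.H4.Der

open MulAction

variable {G : Type*} [Group G] {Ω : Type*} [MulAction G Ω]

/-- `M` is an abelian normal subgroup acting regularly. -/
structure Aff (Ω : Type*) [MulAction G Ω] (M : Subgroup G) : Prop where
  normal : M.Normal
  comm : ∀ a ∈ M, ∀ b ∈ M, a * b = b * a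
  trans : Trans Ω M
  semireg : Semireg Ω M

namespace Aff

variable {M : Subgroup G} (hM : Aff Ω M)
include hM

theorem conj_mem {m : G} (hm : m ∈ M) (g : G) : g * m * g⁻¹ ∈ M :=
  hM.normal.conj_mem m hm g

theorem isDer_of_mem {m : G} (hm : m ∈ M) (h1 : m ≠ 1) : IsDer Ω m :=
  fun ω h => h1 (hM.semireg m hm ω h)

theorem eq_of_smul_eq {a b : G} (ha : a ∈ M) (hb : b ∈ M) {ω : Ω} (h : a • ω = b • ω) :
    a = b := by
  have h1 : (b⁻¹ * a) • ω = ω := by rw [mul_smul, h, inv_smul_smul]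
  have := hM.semireg _ (M.mul_mem (M.inv_mem hb) ha) ω h1
  exact (inv_mul_eq_one.1 this).symm

theorem inter_stabilizer {g : G} (hg : g ∈ M) {ω : Ω} (h : g • ω = ω) : g = 1 :=
  hM.semireg g hg ω h

/-- fixed points of `v * g` in terms of the map `u ↦ u * (g u g⁻¹)⁻¹` -/
theorem fix_iff {g v w u : G} (hv : v ∈ M) (hw : w ∈ M) (hu : u ∈ M) {α : Ω}
    (hgα : g • α = w • α) :
    (v * g) • (u • α) = u • α ↔ v * w = u * (g * u * g⁻¹)⁻¹ := by
  have hc : g * u * g⁻¹ ∈ M := hM.conj_mem hu g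
  have h1 : (v * g) • (u • α) = (v * (g * u * g⁻¹) * w) • α := by
    calc (v * g) • (u • α) = (v * g * u) • α := by rw [← mul_smul]
      _ = (v * (g * u * g⁻¹)) • (g • α) := by rw [← mul_smul]; congr 1; group
      _ = (v * (g * u * g⁻¹)) • (w • α) := by rw [hgα]
      _ = (v * (g * u * g⁻¹) * w) • α := by rw [← mul_smul]
  rw [h1]
  have h3 : (g * u * g⁻¹) * w = w * (g * u * g⁻¹) := hM.comm _ hc _ hw
  constructor
  · intro h
    have h2 := hM.eq_of_smul_eq (M.mul_mem (M.mul_mem hv hc) hw) hu h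
    rw [mul_assoc, h3, ← mul_assoc] at h2
    rw [eq_mul_inv_iff_mul_eq]
    exact h2
  · intro h
    have h4 : v * (g * u * g⁻¹) * w = u := by
      rw [mul_assoc, h3, ← mul_assoc, h]
      group
    rw [h4]

variable [Finite G]

/-- If `g` centralizes a nonidentity element of `M`, some `v * g` with `v ∈ M` is a
derangement. -/
theorem exists_der_mul (α : Ω) {g m : G} (hm : m ∈ M) (hm1 : m ≠ 1) (hc : g * m = m * g) :
    ∃ v ∈ M, IsDer Ω (v * g) := by
  classical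
  let φ : M → M := fun u => ⟨u.1 * (g * u.1 * g⁻¹)⁻¹,
    M.mul_mem u.2 (M.inv_mem (hM.conj_mem u.2 g))⟩
  have hninj : ¬ Function.Injective φ := by
    intro hinj
    have h1 : φ ⟨m, hm⟩ = φ 1 := by
      apply Subtype.ext
      show m * (g * m * g⁻¹)⁻¹ = (1 : G) * (g * 1 * g⁻¹)⁻¹
      rw [hc]
      group
    have := hinj h1
    exact hm1 (congrArg Subtype.val this)
  have hnsurj : ¬ Function.Surjective φ := fun hs =>
    hninj (Finite.injective_iff_surjective.mpr hs)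
  rw [Function.Surjective] at hnsurj
  push Not at hnsurj
  obtain ⟨v₀, hv₀⟩ := hnsurj
  obtain ⟨w, hw, hwα⟩ := hM.trans α (g • α)
  refine ⟨v₀.1 * w⁻¹, M.mul_mem v₀.2 (M.inv_mem hw), ?_⟩
  intro ω hω
  obtain ⟨u, hu, rfl⟩ := hM.trans α ω
  rw [hM.fix_iff (M.mul_mem v₀.2 (M.inv_mem hw)) hw hu hwα.symm] at hω
  apply hv₀ ⟨u, hu⟩
  apply Subtype.ext
  show u * (g * u * g⁻¹)⁻¹ = v₀.1
  rw [← hω]
  group

/-- If `g` centralizes no nonidentity element of `M`, then `g` fixes a point. -/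
theorem exists_fixed (α : Ω) {g : G} (hc : ∀ m ∈ M, g * m = m * g → m = 1) :
    ∃ ω : Ω, g • ω = ω := by
  classical
  let φ : M → M := fun u => ⟨u.1 * (g * u.1 * g⁻¹)⁻¹,
    M.mul_mem u.2 (M.inv_mem (hM.conj_mem u.2 g))⟩
  have hinj : Function.Injective φ := by
    intro u u' h
    have h1 : u.1 * (g * u.1 * g⁻¹)⁻¹ = u'.1 * (g * u'.1 * g⁻¹)⁻¹ := congrArg Subtype.val h
    have hcu : g * u.1 * g⁻¹ ∈ M := hM.conj_mem u.2 g
    have hcu' : g * u'.1 * g⁻¹ ∈ M := hM.conj_mem u'.2 g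
    -- u'⁻¹ u = c(u')⁻¹ c(u)
    have h2 : u'.1⁻¹ * u.1 = (g * u'.1 * g⁻¹)⁻¹ * (g * u.1 * g⁻¹) := by
      have h3 : u.1 = u'.1 * (g * u'.1 * g⁻¹)⁻¹ * (g * u.1 * g⁻¹) := by
        rw [← h1]; group
      calc u'.1⁻¹ * u.1 = u'.1⁻¹ * (u'.1 * (g * u'.1 * g⁻¹)⁻¹ * (g * u.1 * g⁻¹)) := by
            rw [← h3]
        _ = _ := by group
    have h4 : g * (u'.1⁻¹ * u.1) = (u'.1⁻¹ * u.1) * g := by
      have : (g * u'.1 * g⁻¹)⁻¹ * (g * u.1 * g⁻¹) = g * (u'.1⁻¹ * u.1) * g⁻¹ := by group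
      rw [this] at h2
      calc g * (u'.1⁻¹ * u.1) = (g * (u'.1⁻¹ * u.1) * g⁻¹) * g := by group
        _ = (u'.1⁻¹ * u.1) * g := by rw [← h2]
    have h5 := hc _ (M.mul_mem (M.inv_mem u'.2) u.2) h4
    apply Subtype.ext
    exact (inv_mul_eq_one.1 h5).symm
  have hsurj : Function.Surjective φ := Finite.injective_iff_surjective.mp hinj
  obtain ⟨w, hw, hwα⟩ := hM.trans α (g • α)
  obtain ⟨u, hu⟩ := hsurj ⟨w, hw⟩
  refine ⟨u.1 • α, ?_⟩
  have h := (hM.fix_iff (v := 1) M.one_mem hw u.2 hwα.symm).mpr (by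
    rw [one_mul]
    exact (congrArg Subtype.val hu).symm)
  rwa [one_mul] at h

omit [Finite G] in
/-- If `g` centralizes no nonidentity element of `M`, then `g` fixes at most one point. -/
theorem fixed_unique {g : G} (hc : ∀ m ∈ M, g * m = m * g → m = 1) {ω ω' : Ω}
    (h : g • ω = ω) (h' : g • ω' = ω') : ω = ω' := by
  obtain ⟨u, hu, rfl⟩ := hM.trans ω ω'
  have h1 : (g * u * g⁻¹) • ω = u • ω := by
    have : g⁻¹ • ω = ω := by rw [inv_smul_eq_iff, h]
    rw [mul_smul, mul_smul, this, h']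
  have h2 := hM.eq_of_smul_eq (hM.conj_mem hu g) hu h1
  have h3 : g * u = u * g := by
    calc g * u = (g * u * g⁻¹) * g := by group
      _ = u * g := by rw [h2]
  rw [hc u hu h3, one_smul]

/-- If every derangement lies in `M`, elements outside `M` centralize nothing in `M`. -/
theorem cent_trivial (α : Ω) (hD : ∀ d : G, IsDer Ω d → d ∈ M) {g : G} (hg : g ∉ M) :
    ∀ m ∈ M, g * m = m * g → m = 1 := by
  intro m hm hc
  by_contra hm1
  obtain ⟨v, hv, hd⟩ := hM.exists_der_mul α hm hm1 hc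
  have := hD _ hd
  apply hg
  have h2 : g = v⁻¹ * (v * g) := by group
  rw [h2]
  exact M.mul_mem (M.inv_mem hv) this

/-- If every derangement lies in `M`, every nonidentity element fixes at most one point. -/
theorem card_fixedBy_le_one (α : Ω) (hD : ∀ d : G, IsDer Ω d → d ∈ M) {g : G} (hg : g ≠ 1) :
    Nat.card (fixedBy Ω g) ≤ 1 := by
  have hs : Subsingleton (fixedBy Ω g) := by
    constructor
    rintro ⟨ω, hω⟩ ⟨ω', hω'⟩
    apply Subtype.ext
    show ω = ω'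
    rw [mem_fixedBy] at hω hω'
    by_cases hgM : g ∈ M
    · exact absurd (hM.semireg g hgM ω hω) hg
    · exact hM.fixed_unique (hM.cent_trivial α hD hgM) hω hω'
  exact Finite.card_le_one_iff_subsingleton.mpr hs

omit [Finite G] in
/-- Conjugacy of two elements of `M` can be realized inside a point stabilizer. -/
theorem conj_in_stabilizer (α : Ω) {m m' : G} (hm : m ∈ M) (h : IsConj m m') :
    ∃ h ∈ stabilizer G α, h * m * h⁻¹ = m' := by
  obtain ⟨x, hx⟩ := isConj_iff.mp h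
  obtain ⟨n, hn, hnα⟩ := hM.trans α (x • α)
  refine ⟨n⁻¹ * x, ?_, ?_⟩
  · rw [mem_stabilizer_iff, mul_smul, ← hnα, inv_smul_smul]
  · have hc : x * m * x⁻¹ ∈ M := hM.conj_mem hm x
    have h1 : n⁻¹ * x * m * (n⁻¹ * x)⁻¹ = n⁻¹ * (x * m * x⁻¹) * n := by group
    rw [h1, hx]
    have hm' : m' ∈ M := hx ▸ hc
    have h2 : n⁻¹ * m' = m' * n⁻¹ := hM.comm _ (M.inv_mem hn) _ hm'
    rw [h2]
    group

omit [Finite G] in
/-- If all nonidentity elements of `M` are conjugate, `G` is 2-transitive. -/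
theorem two_pretransitive (hconj : ∀ m ∈ M, ∀ m' ∈ M, m ≠ 1 → m' ≠ 1 → IsConj m m') :
    IsMultiplyPretransitive G Ω 2 := by
  rw [is_two_pretransitive_iff]
  intro a b c d hab hcd
  -- move `a` to `c` first
  obtain ⟨x, hx, hxa⟩ := hM.trans a c
  -- now `x • b ≠ c` and `d ≠ c`
  have hxb : x • b ≠ c := by
    intro h
    apply hab
    rw [← hxa] at h
    exact (smul_left_cancel x h).symm
  obtain ⟨m, hm, hmb⟩ := hM.trans c (x • b)
  obtain ⟨m', hm', hmd⟩ := hM.trans c d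
  have hm1 : m ≠ 1 := by
    rintro rfl
    rw [one_smul] at hmb
    exact hxb hmb.symm
  have hm'1 : m' ≠ 1 := by
    rintro rfl
    rw [one_smul] at hmd
    exact hcd hmd
  obtain ⟨h, hh, hconj'⟩ := hM.conj_in_stabilizer c hm (hconj m hm m' hm' hm1 hm'1)
  rw [mem_stabilizer_iff] at hh
  refine ⟨h * x, ?_, ?_⟩
  · rw [mul_smul, hxa, hh]
  · rw [mul_smul, ← hmb, ← hmd, ← hconj']
    have hinv : h⁻¹ • c = c := by rw [inv_smul_eq_iff, hh]
    rw [mul_smul, mul_smul, hinv]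

end Aff

end Cfsg.Agent.Lib.H4.Der
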