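import Mathlib
import Cfsg.Agent.Lib.H4.Der.Struct

set_option autoImplicit false
set_option linter.style.haveILetI false

/-!
# Three classes of derangements when a minimal normal subgroup is nonabelian (helper4)

Let `G` be a finite faithful quasiprimitive group that is not almost simple, with a nonabelian
minimal normal subgroup `M`.  Then `G` has at least three conjugacy classes of derangements.
-/

namespace Cfsg.Agent.Lib.H4.Der

open MulAction

variable {G : Type*} [Group G] {Ω : Type*} [MulAction G Ω]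

theorem orderOf_conj_eq (g t : G) : orderOf (g * t * g⁻¹) = orderOf t := by
  have : g * t * g⁻¹ = (MulAut.conj g) t := by simp [MulAut.conj_apply]
  rw [this, MulEquiv.orderOf_eq]

/-- Two commuting elements of distinct prime orders in semiregular subgroups give three classes
of derangements. -/
theorem three_of_orders [Finite G] [Nonempty Ω] {A B : Subgroup G} (hA : Semireg Ω A)
    (hB : Semireg Ω B) {a b : G} (ha : a ∈ A) (hb : b ∈ B) (hab : a * b = b * a) {p r : ℕ}
    (hp : p.Prime) (hr : r.Prime) (hpr : p ≠ r) (hoa : orderOf a = p) (hob : orderOf b = r) :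
    3 ≤ Nat.card (DerClass (G := G) Ω) := by
  have ha1 : a ≠ 1 := by
    rintro rfl
    rw [orderOf_one] at hoa
    exact hp.one_lt.ne hoa
  have hb1 : b ≠ 1 := by
    rintro rfl
    rw [orderOf_one] at hob
    exact hr.one_lt.ne hob
  have hda : IsDer Ω a := fun ω h => ha1 (hA a ha ω h)
  have hdb : IsDer Ω b := fun ω h => hb1 (hB b hb ω h)
  have hdab : IsDer Ω (a * b) := by
    apply isDer_mul_of_commute hB hb hab (p := p)
    · rw [← hoa]; exact pow_orderOf_eq_one a
    · intro h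
      have := orderOf_dvd_of_pow_eq_one h
      rw [hob] at this
      exact hpr ((Nat.prime_dvd_prime_iff_eq hr hp).mp this).symm
  have hoab : orderOf (a * b) = p * r := by
    have hc : Commute a b := hab
    rw [hc.orderOf_mul_eq_mul_orderOf_of_coprime, hoa, hob]
    rw [hoa, hob]
    exact (Nat.coprime_primes hp hr).mpr hpr
  have hp2 := hp.two_le
  have hr2 := hr.two_le
  apply three_le_card_derClass hda hdb hdab
  · apply not_isConj_of_orderOf_ne; rw [hoa, hob]; exact hpr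
  · apply not_isConj_of_orderOf_ne; rw [hoa, hoab]; intro h; nlinarith
  · apply not_isConj_of_orderOf_ne; rw [hob, hoab]; intro h; nlinarith

namespace Ctx

variable {M T : Subgroup G}

/-- `T` contains elements of two distinct prime orders. -/
theorem exists_two_primes [Finite G] (h : Ctx M T) :
    ∃ p q : ℕ, p.Prime ∧ q.Prime ∧ p ≠ q ∧ (∃ t ∈ T, orderOf t = p) ∧
      (∃ t ∈ T, orderOf t = q) := by
  classical
  have hcard : Nat.card T ≠ 1 := by
    intro h1
    exact h.hT.ne_bot (Subgroup.card_eq_one.mp h1)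
  obtain ⟨p, hp, hpd⟩ := Nat.exists_prime_and_dvd hcard
  haveI := Fact.mk hp
  by_cases hex : ∃ q : ℕ, q.Prime ∧ q ∣ Nat.card T ∧ q ≠ p
  · obtain ⟨q, hq, hqd, hqp⟩ := hex
    haveI := Fact.mk hq
    obtain ⟨x, hx⟩ := exists_prime_orderOf_dvd_card' p hpd
    obtain ⟨y, hy⟩ := exists_prime_orderOf_dvd_card' q hqd
    refine ⟨p, q, hp, hq, hqp.symm, ⟨x.1, x.2, ?_⟩, ⟨y.1, y.2, ?_⟩⟩
    · rw [Subgroup.orderOf_coe]; exact hx
    · rw [Subgroup.orderOf_coe]; exact hy
  · exfalso
    push Not at hex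
    have hpow := Nat.eq_prime_pow_of_unique_prime_dvd (n := Nat.card T) (p := p)
      Nat.card_pos.ne' (fun {d} hd hdd => hex d hd hdd)
    have hPG : IsPGroup p T := IsPGroup.of_card hpow
    haveI : Nontrivial T := (Subgroup.nontrivial_iff_ne_bot T).mpr h.hT.ne_bot
    haveI := hPG.center_nontrivial
    obtain ⟨z, hz⟩ := exists_ne (1 : Subgroup.center T)
    apply hz
    have hzc := z.2
    rw [Subgroup.mem_center_iff] at hzc
    have h1 : (z.1.1 : G) = 1 := by
      apply h.center_T z.1.2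
      intro t ht
      exact congrArg Subtype.val (hzc ⟨t, ht⟩)
    apply Subtype.ext
    apply Subtype.ext
    exact h1

/-- the case where `T` is normal in `G` -/
theorem three_of_normal [Finite G] [FaithfulSMul G Ω] [Nonempty Ω]
    (hq : ∀ N : Subgroup G, N.Normal → N ≠ ⊥ → Trans Ω N)
    (hnas : ¬ ∃ T : Subgroup G, T.Normal ∧ IsSimpleGroup T ∧ ¬ IsMulCommutative T ∧
      Subgroup.centralizer (T : Set G) = ⊥)
    (h : Ctx M T) (hall : ∀ g : G, cj g T = T) : 3 ≤ Nat.card (DerClass (G := G) Ω) := by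
  classical
  have hTn : T.Normal := by
    constructor
    intro n hn g
    have := conj_mem_cj (g := g) hn
    rwa [hall g] at this
  have hTM : T = M := h.hM.min T hTn h.hT.ne_bot h.hT.le
  haveI hnt : Nontrivial T := (Subgroup.nontrivial_iff_ne_bot T).mpr h.hT.ne_bot
  have hsimple : IsSimpleGroup T := by
    refine { toNontrivial := hnt, eq_bot_or_eq_top_of_normal := fun K hK => ?_ }
    by_cases hKb : K = ⊥
    · exact Or.inl hKb
    · right
      have hS : K.map T.subtype = T := by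
        apply h.hT.min
        · exact Subgroup.map_subtype_le K
        · intro hb
          apply hKb
          exact (Subgroup.map_eq_bot_iff_of_injective K T.subtype_injective).mp hb
        · rintro m hm _ ⟨k, hk, rfl⟩
          have hmT : m ∈ T := hTM ▸ hm
          refine ⟨⟨m, hmT⟩ * k * ⟨m, hmT⟩⁻¹, hK.conj_mem k hk ⟨m, hmT⟩, ?_⟩
          simp
      rw [eq_top_iff]
      intro x _
      have hx : (x : G) ∈ K.map T.subtype := by rw [hS]; exact x.2
      obtain ⟨k, hk, hkx⟩ := hx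
      have : k = x := Subtype.ext hkx
      rwa [this] at hk
  have hnc : ¬ IsMulCommutative T := by
    intro hc
    apply h.T_nonab
    intro a ha b hb
    exact congrArg Subtype.val (hc.is_comm.comm ⟨a, ha⟩ ⟨b, hb⟩)
  have hB : Subgroup.centralizer (T : Set G) ≠ ⊥ := fun hb => hnas ⟨T, hTn, hsimple, hnc, hb⟩
  have hBn : (Subgroup.centralizer (T : Set G)).Normal := by
    haveI := hTn
    exact Subgroup.normal_centralizer
  have hBt : Trans Ω (Subgroup.centralizer (T : Set G)) := hq _ hBn hB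
  have hTt : Trans Ω T := hq T hTn h.hT.ne_bot
  have hTs : Semireg Ω T := semireg_of_commute_trans hBt (fun a ha b hb =>
    ((Subgroup.mem_centralizer_iff.mp ha) b hb).symm)
  have hBs : Semireg Ω (Subgroup.centralizer (T : Set G)) :=
    semireg_of_commute_trans hTt (fun a ha b hb => (Subgroup.mem_centralizer_iff.mp hb) a ha)
  have hcardB : Nat.card (Subgroup.centralizer (T : Set G)) ≠ 1 := by
    intro h1
    exact hB (Subgroup.card_eq_one.mp h1)
  obtain ⟨r, hr, hrd⟩ := Nat.exists_prime_and_dvd hcardB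
  haveI := Fact.mk hr
  obtain ⟨y, hy⟩ := exists_prime_orderOf_dvd_card' r hrd
  have hyo : orderOf (y : G) = r := by rw [Subgroup.orderOf_coe]; exact hy
  obtain ⟨p, q, hp, hq', hpq, ⟨t, ht, hto⟩, ⟨t', ht', hto'⟩⟩ := h.exists_two_primes
  by_cases hpr : p = r
  · have hqr : q ≠ r := fun hh => hpq (hpr.trans hh.symm)
    exact three_of_orders hTs hBs ht' y.2
      ((Subgroup.mem_centralizer_iff.mp y.2) t' ht') hq' hr hqr hto' hyo
  · exact three_of_orders hTs hBs ht y.2
      ((Subgroup.mem_centralizer_iff.mp y.2) t ht) hp hr hpr hto hyo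

/-- the case where `T` is semiregular and not normal -/
theorem three_of_semireg [Finite G] [Nonempty Ω] (h : Ctx M T) {g : G} (hne : cj g T ≠ T)
    (hs : Semireg Ω T) : 3 ≤ Nat.card (DerClass (G := G) Ω) := by
  have hB : Semireg Ω (cj g T) := semireg_map_conj hs g
  obtain ⟨p, q, hp, hq', hpq, ⟨t, ht, hto⟩, ⟨t', ht', hto'⟩⟩ := h.exists_two_primes
  have hb : g * t' * g⁻¹ ∈ cj g T := conj_mem_cj ht'
  exact three_of_orders hs hB ht hb (h.commute hne ht hb) hp hq' hpq hto
    (by rw [orderOf_conj_eq]; exact hto')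


theorem mem_psupp_T_iff (h : Ctx M T) {t c : G} (ht : t ∈ T) (hc : c ∈ cen M T) (p : ℕ) :
    T ∈ psupp T p (t * c) ↔ t ^ p = 1 ∧ t ≠ 1 := by
  have hcomm : Commute t c := (mem_cen.mp hc).2 t ht
  have hpow : (t * c) ^ p = t ^ p * c ^ p := hcomm.mul_pow p
  have hcp : c ^ p ∈ cen M T := Subgroup.pow_mem _ hc p
  have htp : t ^ p ∈ T := T.pow_mem ht p
  unfold psupp
  rw [Set.mem_ofPred_eq, hpow, h.mul_mem_centralizer_T_iff htp hcp,
    h.mul_mem_centralizer_T_iff ht hc]
  constructor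
  · rintro ⟨_, h1, h2⟩; exact ⟨h1, h2⟩
  · rintro ⟨h1, h2⟩; exact ⟨⟨1, (cj_one T).symm⟩, h1, h2⟩

theorem mem_psupp_S_iff (h : Ctx M T) {g : G} (hne : cj g T ≠ T) {t c : G} (ht : t ∈ T)
    (hc : c ∈ cen M T) (p : ℕ) :
    cj g T ∈ psupp T p (t * c) ↔
      c ^ p ∈ Subgroup.centralizer ((cj g T : Subgroup G) : Set G) ∧
        c ∉ Subgroup.centralizer ((cj g T : Subgroup G) : Set G) := by
  have hcomm : Commute t c := (mem_cen.mp hc).2 t ht
  have hpow : (t * c) ^ p = t ^ p * c ^ p := hcomm.mul_pow p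
  have htp : t ^ p ∈ T := T.pow_mem ht p
  unfold psupp
  rw [Set.mem_ofPred_eq, hpow, mul_mem_centralizer_S_iff h hne htp,
    mul_mem_centralizer_S_iff h hne ht]
  constructor
  · rintro ⟨_, h1, h2⟩; exact ⟨h1, h2⟩
  · rintro ⟨h1, h2⟩; exact ⟨⟨g, rfl⟩, h1, h2⟩

theorem supp_of_mem_T (h : Ctx M T) {t : G} (ht : t ∈ T) (ht1 : t ≠ 1) : supp T t = {T} := by
  ext S
  rw [Set.mem_singleton_iff]
  constructor
  · rintro ⟨⟨g, rfl⟩, hd⟩
    by_contra hne
    apply hd
    rw [Subgroup.mem_centralizer_iff]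
    intro b hb
    exact (h.commute hne ht hb).symm
  · rintro rfl
    refine ⟨⟨1, (cj_one _).symm⟩, ?_⟩
    intro hmem
    rw [Subgroup.mem_centralizer_iff] at hmem
    exact ht1 (h.center_T ht hmem)

theorem two_le_ncard_supp [Finite G] (h : Ctx M T) {t c : G} (ht : t ∈ T) (ht1 : t ≠ 1)
    (hc : c ∈ cen M T) (hc1 : c ≠ 1) : 2 ≤ (supp T (t * c)).ncard := by
  obtain ⟨g, hne, hcS⟩ := h.exists_not_centralize hc hc1
  have hsub : ({T, cj g T} : Set (Subgroup G)) ⊆ supp T (t * c) := by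
    intro S hS
    rw [Set.mem_insert_iff, Set.mem_singleton_iff] at hS
    rcases hS with rfl | rfl
    · refine ⟨⟨1, (cj_one _).symm⟩, ?_⟩
      rw [h.mul_mem_centralizer_T_iff ht hc]
      exact ht1
    · refine ⟨⟨g, rfl⟩, ?_⟩
      rw [mul_mem_centralizer_S_iff h hne ht]
      exact hcS
  calc 2 = ({T, cj g T} : Set (Subgroup G)).ncard := (Set.ncard_pair (Ne.symm hne)).symm
    _ ≤ _ := Set.ncard_le_ncard hsub (Set.toFinite _)

/-- the case where `T` is neither semiregular nor normal -/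
theorem three_of_not_semireg [Finite G] [FaithfulSMul G Ω] [Nonempty Ω] (h : Ctx M T)
    (hMt : Trans Ω M) {g : G} (hne : cj g T ≠ T) (hs : ¬ Semireg Ω T) :
    3 ≤ Nat.card (DerClass (G := G) Ω) := by
  classical
  -- `T` is not transitive
  have hTnt : ¬ Trans Ω T := by
    intro hTt
    apply hs
    have hcs : Semireg Ω (cj g T) :=
      semireg_of_commute_trans hTt (fun a ha b hb => h.commute hne ha hb)
    have h1 := semireg_map_conj hcs g⁻¹
    have h2 : (cj g T).map (MulAut.conj g⁻¹).toMonoidHom = T := cj_inv_cj g T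
    rwa [h2] at h1
  obtain ⟨α⟩ := ‹Nonempty Ω›
  haveI : Nonempty Ω := ⟨α⟩
  -- the subgroup `T * M_α`
  let H : Subgroup G :=
    { carrier := {m | m ∈ M ∧ ∃ t ∈ T, m • α = t • α}
      one_mem' := ⟨M.one_mem, 1, T.one_mem, rfl⟩
      mul_mem' := by
        rintro m₁ m₂ ⟨hm₁, t₁, ht₁, h₁⟩ ⟨hm₂, t₂, ht₂, h₂⟩
        refine ⟨M.mul_mem hm₁ hm₂, (m₁ * t₂ * m₁⁻¹) * t₁,
          T.mul_mem (h.hT.norm m₁ hm₁ t₂ ht₂) ht₁, ?_⟩
        rw [mul_smul, h₂, mul_smul, ← h₁, ← mul_smul, ← mul_smul]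
        congr 1
        group
      inv_mem' := by
        rintro m ⟨hm, t, ht, h₁⟩
        have hm' : m⁻¹ ∈ M := M.inv_mem hm
        refine ⟨hm', m⁻¹ * t⁻¹ * m⁻¹⁻¹, h.hT.norm m⁻¹ hm' t⁻¹ (T.inv_mem ht), ?_⟩
        rw [inv_inv, mul_smul, mul_smul, h₁, inv_smul_smul] }
  have hHM : H ≤ M := fun m hm => hm.1
  have hHne : H ≠ M := by
    intro hHeq
    apply hTnt
    intro a b
    obtain ⟨x, hx, rfl⟩ := hMt α a
    obtain ⟨y, hy, rfl⟩ := hMt α b
    have hmem : x⁻¹ * y ∈ H := by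
      rw [hHeq]; exact M.mul_mem (M.inv_mem hx) hy
    obtain ⟨_, t, ht, h₁⟩ := hmem
    refine ⟨x * t * x⁻¹, h.hT.norm x hx t ht, ?_⟩
    rw [mul_smul, inv_smul_smul, mul_smul, ← h₁, mul_smul, smul_inv_smul]
  obtain ⟨g₁, hg₁M, hg₁⟩ := exists_mem_not_mem_conj H M hHM hHne
  have hder : ∀ t ∈ T, IsDer Ω (t * g₁) := by
    intro t ht ω hω
    obtain ⟨x, hx, rfl⟩ := hMt α ω
    apply hg₁ x hx
    refine ⟨M.mul_mem (M.mul_mem (M.inv_mem hx) hg₁M) hx, x⁻¹ * t⁻¹ * x⁻¹⁻¹,
      h.hT.norm x⁻¹ (M.inv_mem hx) t⁻¹ (T.inv_mem ht), ?_⟩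
    rw [inv_inv, mul_smul, mul_smul, mul_smul, mul_smul]
    congr 1
    rw [mul_smul] at hω
    rw [eq_inv_smul_iff]
    exact hω
  obtain ⟨t₀, ht₀, c, hc, hg₁eq⟩ := h.decomp hg₁M
  have hder' : ∀ t ∈ T, IsDer Ω (t * c) := by
    intro t ht
    have := hder (t * t₀⁻¹) (T.mul_mem ht (T.inv_mem ht₀))
    rw [hg₁eq] at this
    have h2 : t * t₀⁻¹ * (t₀ * c) = t * c := by group
    rwa [h2] at this
  have hc1 : c ≠ 1 := by
    have := hder' 1 T.one_mem
    rw [one_mul] at this
    exact this.ne_one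
  -- a derangement in `T`
  have hTα : T ⊓ stabilizer G α ≠ T := by
    intro heq
    apply h.hT.ne_bot
    rw [eq_bot_iff]
    intro t ht
    rw [Subgroup.mem_bot]
    apply FaithfulSMul.eq_of_smul_eq_smul (α := Ω)
    intro ω
    obtain ⟨x, hx, rfl⟩ := hMt α ω
    have hmem : x⁻¹ * t * x⁻¹⁻¹ ∈ T ⊓ stabilizer G α := by
      rw [heq]; exact h.hT.norm x⁻¹ (M.inv_mem hx) t ht
    have hfix := (Subgroup.mem_inf.mp hmem).2
    rw [mem_stabilizer_iff, inv_inv, mul_smul, mul_smul, inv_smul_eq_iff] at hfix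
    rw [one_smul, hfix]
  obtain ⟨t₁, ht₁, hcov⟩ := exists_mem_not_mem_conj (T ⊓ stabilizer G α) T inf_le_left hTα
  have hdt₁ : IsDer Ω t₁ := by
    intro ω hω
    obtain ⟨m, hm, rfl⟩ := hMt α ω
    obtain ⟨t, ht, c', hc', rfl⟩ := h.decomp hm
    apply hcov t ht
    have hmemT : t⁻¹ * t₁ * t ∈ T := T.mul_mem (T.mul_mem (T.inv_mem ht) ht₁) ht
    refine Subgroup.mem_inf.mpr ⟨hmemT, ?_⟩
    rw [mem_stabilizer_iff]
    have hcomm : (t⁻¹ * t₁ * t) * c' = c' * (t⁻¹ * t₁ * t) := (mem_cen.mp hc').2 _ hmemT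
    have h3 : t⁻¹ * t₁ * t = (t * c')⁻¹ * t₁ * (t * c') := by
      calc t⁻¹ * t₁ * t = c'⁻¹ * (c' * (t⁻¹ * t₁ * t)) := by group
        _ = c'⁻¹ * ((t⁻¹ * t₁ * t) * c') := by rw [hcomm]
        _ = _ := by group
    rw [h3, mul_smul, mul_smul, hω, inv_smul_smul]
  have ht₁1 : t₁ ≠ 1 := hdt₁.ne_one
  obtain ⟨p, q, hp, hq', hpq, ⟨t, ht, hto⟩, ⟨t', ht', hto'⟩⟩ := h.exists_two_primes
  have ht1 : t ≠ 1 := by
    rintro rfl
    rw [orderOf_one] at hto
    exact hp.one_lt.ne hto
  have ht'1 : t' ≠ 1 := by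
    rintro rfl
    rw [orderOf_one] at hto'
    exact hq'.one_lt.ne hto'
  have hsupp1 : (supp T t₁).ncard = 1 := by
    rw [h.supp_of_mem_T ht₁ ht₁1, Set.ncard_singleton]
  have hsupp2 := h.two_le_ncard_supp ht ht1 hc hc1
  have hsupp3 := h.two_le_ncard_supp ht' ht'1 hc hc1
  have htp : t ^ p = 1 := by rw [← hto]; exact pow_orderOf_eq_one t
  have ht'p : t' ^ p ≠ 1 := by
    intro hh
    have := orderOf_dvd_of_pow_eq_one hh
    rw [hto'] at this
    exact hpq ((Nat.prime_dvd_prime_iff_eq hq' hp).mp this).symm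
  have hTnot : T ∉ psupp T p (t' * c) := by
    rw [h.mem_psupp_T_iff ht' hc]
    exact fun hh => ht'p hh.1
  have hpsupp : psupp T p (t * c) = insert T (psupp T p (t' * c)) := by
    ext S
    rw [Set.mem_insert_iff]
    constructor
    · intro hS
      obtain ⟨g', rfl⟩ := hS.1
      by_cases hne' : cj g' T = T
      · exact Or.inl hne'
      · right
        rw [mem_psupp_S_iff h hne' ht' hc]
        rw [mem_psupp_S_iff h hne' ht hc] at hS
        exact hS
    · rintro (rfl | hS)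
      · rw [h.mem_psupp_T_iff ht hc]
        exact ⟨htp, ht1⟩
      · obtain ⟨g', rfl⟩ := hS.1
        by_cases hne' : cj g' T = T
        · rw [hne'] at hS
          exact absurd hS hTnot
        · rw [mem_psupp_S_iff h hne' ht hc]
          rw [mem_psupp_S_iff h hne' ht' hc] at hS
          exact hS
  have hpsuppcard : (psupp T p (t * c)).ncard = (psupp T p (t' * c)).ncard + 1 := by
    rw [hpsupp, Set.ncard_insert_of_notMem hTnot (Set.toFinite _)]
  apply three_le_card_derClass hdt₁ (hder' t ht) (hder' t' ht')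
  · intro hconj
    have := ncard_supp_of_isConj T hconj
    omega
  · intro hconj
    have := ncard_supp_of_isConj T hconj
    omega
  · intro hconj
    have := ncard_psupp_of_isConj T p hconj
    omega

/-- **Main theorem of the nonabelian case.** -/
theorem three_le [Finite G] [FaithfulSMul G Ω] [Nonempty Ω]
    (hq : ∀ N : Subgroup G, N.Normal → N ≠ ⊥ → Trans Ω N)
    (hnas : ¬ ∃ T : Subgroup G, T.Normal ∧ IsSimpleGroup T ∧ ¬ IsMulCommutative T ∧
      Subgroup.centralizer (T : Set G) = ⊥)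
    (h : Ctx M T) : 3 ≤ Nat.card (DerClass (G := G) Ω) := by
  by_cases hall : ∀ g : G, cj g T = T
  · exact h.three_of_normal hq hnas hall
  · push Not at hall
    obtain ⟨g, hne⟩ := hall
    by_cases hs : Semireg Ω T
    · exact h.three_of_semireg hne hs
    · exact h.three_of_not_semireg (hq M h.hM.normal h.hM.ne_bot) hne hs

end Ctx

end Cfsg.Agent.Lib.H4.Der
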