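import Mathlib
import Cfsg.Agent.Lib.H4.Der.Affine
import Cfsg.Agent.Lib.H4.Der.NonAffine

set_option autoImplicit false
set_option linter.style.haveILetI false

/-!
# Primitive groups that are not almost simple: affine or at least three classes (helper4)
-/

namespace Cfsg.Agent.Lib.H4.Der

open MulAction

variable {G : Type*} [Group G] {Ω : Type*} [MulAction G Ω]

/-- In a faithful primitive action every nontrivial normal subgroup is transitive. -/
theorem trans_of_normal [IsPreprimitive G Ω] [FaithfulSMul G Ω] {N : Subgroup G}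
    (hN : N.Normal) (hb : N ≠ ⊥) : Trans Ω N := by
  haveI := hN
  have hfix : fixedPoints N Ω ≠ Set.univ := by
    intro h
    apply hb
    rw [eq_bot_iff]
    intro n hn
    rw [Subgroup.mem_bot]
    apply FaithfulSMul.eq_of_smul_eq_smul (α := Ω)
    intro ω
    have hω : ω ∈ fixedPoints N Ω := by rw [h]; trivial
    rw [one_smul]
    exact hω ⟨n, hn⟩
  haveI : IsPretransitive N Ω := IsQuasiPreprimitive.isPretransitive_of_normal hfix
  intro a b
  obtain ⟨n, hn⟩ := exists_smul_eq N a b
  exact ⟨n.1, n.2, hn⟩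

/-- An abelian minimal normal subgroup of a faithful primitive group is regular. -/
theorem aff_of_minNormal [IsPreprimitive G Ω] [FaithfulSMul G Ω] {M : Subgroup G}
    (hM : MinNormal M) (hc : ∀ a ∈ M, ∀ b ∈ M, a * b = b * a) : Aff Ω M := by
  have ht : Trans Ω M := trans_of_normal hM.normal hM.ne_bot
  exact ⟨hM.normal, hc, ht, semireg_of_trans_of_comm ht hc⟩

namespace Aff

variable {M : Subgroup G} (hM : Aff Ω M)
include hM

/-- the regular normal subgroup in the form required by the frozen statements -/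
theorem exists_N (hb : M ≠ ⊥) : ∃ N : Subgroup G, N.Normal ∧ N ≠ ⊥ ∧ IsMulCommutative N ∧
    ∀ ω : Ω, MulAction.stabilizer N ω = ⊥ := by
  refine ⟨M, hM.normal, hb, ⟨⟨fun a b => Subtype.ext (hM.comm a.1 a.2 b.1 b.2)⟩⟩, fun ω => ?_⟩
  rw [eq_bot_iff]
  intro n hn
  rw [Subgroup.mem_bot]
  rw [mem_stabilizer_iff] at hn
  apply Subtype.ext
  exact hM.semireg n.1 n.2 ω hn

/-- a regular subgroup has as many elements as there are points -/
theorem card_eq (α : Ω) : Nat.card M = Nat.card Ω := by
  apply Nat.card_eq_of_bijective (fun m : M => (m : G) • α)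
  constructor
  · intro a b hab
    apply Subtype.ext
    exact hM.eq_of_smul_eq a.2 b.2 hab
  · intro ω
    obtain ⟨m, hm, rfl⟩ := hM.trans α ω
    exact ⟨⟨m, hm⟩, rfl⟩

end Aff

/-- **Dichotomy.** A finite faithful primitive group which is not almost simple either has an
abelian regular normal subgroup or at least three classes of derangements. -/
theorem aff_or_three [Finite G] [Nontrivial G] [IsPreprimitive G Ω] [FaithfulSMul G Ω]
    [Nonempty Ω]
    (hnas : ¬ ∃ T : Subgroup G, T.Normal ∧ IsSimpleGroup T ∧ ¬ IsMulCommutative T ∧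
      Subgroup.centralizer (T : Set G) = ⊥) :
    (∃ M : Subgroup G, M ≠ ⊥ ∧ Aff Ω M) ∨ 3 ≤ Nat.card (DerClass (G := G) Ω) := by
  obtain ⟨M, hM⟩ := exists_minNormal (G := G)
  by_cases hc : ∀ a ∈ M, ∀ b ∈ M, a * b = b * a
  · exact Or.inl ⟨M, hM.ne_bot, aff_of_minNormal hM hc⟩
  · right
    obtain ⟨T, hT⟩ := exists_relMin hM.ne_bot
    have hctx : Ctx M T := ⟨hM, hT, hc⟩
    exact hctx.three_le (fun N hN hb => trans_of_normal hN hb) hnas

end Cfsg.Agent.Lib.H4.Der
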