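import Mathlib
import Cfsg.Agent.Lib.H4.Der.Glue

set_option autoImplicit false
set_option linter.style.haveILetI false

/-!
# Affine groups with at most two classes of derangements (helper4)
-/

namespace Cfsg.Agent.Lib.H4.Der

open MulAction

variable {G : Type*} [Group G] {Ω : Type*} [MulAction G Ω]

namespace Aff

variable {M : Subgroup G} (hM : Aff Ω M)
include hM

omit hM in
theorem mem_of_isConj (hn : M.Normal) {x m : G} (hm : m ∈ M) (h : IsConj x m) : x ∈ M := by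
  obtain ⟨c, hc⟩ := isConj_iff.mp h
  have : x = c⁻¹ * m * c⁻¹⁻¹ := by rw [← hc]; group
  rw [this]
  exact hn.conj_mem m hm c⁻¹

/-- Case II: some derangement lies outside `M`. -/
theorem caseII [Finite G] [Finite Ω] (α : Ω) (hκ : Nat.card (DerClass (G := G) Ω) ≤ 2) {x : G}
    (hx : IsDer Ω x) (hxM : x ∉ M) :
    IsMultiplyPretransitive G Ω 2 ∧ ∃ g : G, g ≠ 1 ∧ 2 ≤ Nat.card (fixedBy Ω g) := by
  have hconj : ∀ m ∈ M, ∀ m' ∈ M, m ≠ 1 → m' ≠ 1 → IsConj m m' := by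
    intro m hm m' hm' hm1 hm'1
    rcases isConj_of_card_le_two hκ hx (hM.isDer_of_mem hm hm1) (hM.isDer_of_mem hm' hm'1) with
      h | h | h
    · exact absurd (mem_of_isConj hM.normal hm h) hxM
    · exact absurd (mem_of_isConj hM.normal hm' h) hxM
    · exact h
  refine ⟨hM.two_pretransitive hconj, ?_⟩
  obtain ⟨m, hm, hxm, hm1⟩ : ∃ m ∈ M, x * m = m * x ∧ m ≠ 1 := by
    by_contra hcon
    push Not at hcon
    obtain ⟨ω, hω⟩ := hM.exists_fixed α hcon
    exact hx ω hω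
  obtain ⟨w, hw, hwα⟩ := hM.trans α (x • α)
  refine ⟨w⁻¹ * x, ?_, ?_⟩
  · intro h1
    apply hxM
    have : x = w := by
      have := congrArg (fun y => w * y) h1
      simpa using this
    rw [this]; exact hw
  · have hfα : (w⁻¹ * x) • α = α := by
      rw [mul_smul, ← hwα, inv_smul_smul]
    have hcomm : (w⁻¹ * x) * m = m * (w⁻¹ * x) := by
      have h1 : w⁻¹ * m = m * w⁻¹ := hM.comm _ (M.inv_mem hw) _ hm
      calc w⁻¹ * x * m = w⁻¹ * (x * m) := by group
        _ = w⁻¹ * (m * x) := by rw [hxm]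
        _ = (w⁻¹ * m) * x := by group
        _ = (m * w⁻¹) * x := by rw [h1]
        _ = m * (w⁻¹ * x) := by group
    have hfm : (w⁻¹ * x) • (m • α) = m • α := by
      rw [← mul_smul, hcomm, mul_smul, hfα]
    have hne : m • α ≠ α := fun h => hm1 (hM.semireg m hm α h)
    have hnt : Nontrivial (fixedBy Ω (w⁻¹ * x)) :=
      ⟨⟨⟨m • α, hfm⟩, ⟨α, hfα⟩, fun h => hne (congrArg Subtype.val h)⟩⟩
    have := Finite.one_lt_card_iff_nontrivial.mpr hnt
    omega

/-- Case I: all derangements lie in `M`, and there are exactly two classes. -/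
theorem caseI [Finite G] [Finite Ω] (α : Ω) (hκ : Nat.card (DerClass (G := G) Ω) = 2)
    (hD : ∀ d : G, IsDer Ω d → d ∈ M) :
    (∀ g : G, g ≠ 1 → Nat.card (fixedBy Ω g) ≤ 1) ∧ ¬ 2 ∣ Nat.card Ω ∧
      2 * Nat.card (stabilizer G α) = Nat.card Ω - 1 := by
  classical
  refine ⟨fun g hg => hM.card_fixedBy_le_one α hD hg, ?_⟩
  -- two non-conjugate derangements
  obtain ⟨c₁, c₂, hne, -⟩ := Nat.card_eq_two_iff.mp hκ
  obtain ⟨_, m₁, rfl, hd₁⟩ := c₁
  obtain ⟨_, m₂, rfl, hd₂⟩ := c₂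
  have hnc : ¬ IsConj m₁ m₂ := by
    intro h
    apply hne
    apply Subtype.ext
    exact ConjClasses.mk_eq_mk_iff_isConj.mpr h
  have hm₁ : m₁ ∈ M := hD _ hd₁
  have hm₂ : m₂ ∈ M := hD _ hd₂
  haveI : Nonempty Ω := ⟨α⟩
  have hm₁1 : m₁ ≠ 1 := IsDer.ne_one hd₁
  have hm₂1 : m₂ ≠ 1 := IsDer.ne_one hd₂
  -- the conjugation maps
  have hinj : ∀ m ∈ M, m ≠ 1 →
      Function.Injective (fun h : stabilizer G α => (h : G) * m * (h : G)⁻¹) := by
    intro m hm hm1 h h' hh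
    have hh' : (h : G) * m * (h : G)⁻¹ = (h' : G) * m * (h' : G)⁻¹ := hh
    have hcomm : ((h' : G)⁻¹ * h) * m = m * ((h' : G)⁻¹ * h) := by
      calc ((h' : G)⁻¹ * h) * m = (h' : G)⁻¹ * ((h : G) * m * (h : G)⁻¹) * h := by group
        _ = (h' : G)⁻¹ * ((h' : G) * m * (h' : G)⁻¹) * h := by rw [hh']
        _ = m * ((h' : G)⁻¹ * h) := by group
    have hcα : ((h' : G)⁻¹ * h) • α = α := by
      have h1 : (h : G) • α = α := h.2
      have h2 : (h' : G) • α = α := h'.2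
      rw [mul_smul, h1, inv_smul_eq_iff, h2]
    have hc1 : (h' : G)⁻¹ * h = 1 := by
      by_cases hcM : (h' : G)⁻¹ * h ∈ M
      · exact hM.semireg _ hcM α hcα
      · exact absurd (hM.cent_trivial α hD hcM m hm hcomm) hm1
    apply Subtype.ext
    exact (inv_mul_eq_one.mp hc1).symm
  set f₁ : stabilizer G α → G := fun h => (h : G) * m₁ * (h : G)⁻¹ with hf₁
  set f₂ : stabilizer G α → G := fun h => (h : G) * m₂ * (h : G)⁻¹ with hf₂
  have hunion : ((M : Set G) \ {1}) = Set.range f₁ ∪ Set.range f₂ := by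
    ext m
    constructor
    · rintro ⟨hm, hm1⟩
      have hm1' : m ≠ 1 := hm1
      have hdm : IsDer Ω m := hM.isDer_of_mem hm hm1'
      rcases isConj_of_card_le_two hκ.le hd₁ hd₂ hdm with h | h | h
      · exact absurd h hnc
      · obtain ⟨s, hs, hsm⟩ := hM.conj_in_stabilizer α hm₁ h
        exact Or.inl ⟨⟨s, hs⟩, hsm⟩
      · obtain ⟨s, hs, hsm⟩ := hM.conj_in_stabilizer α hm₂ h
        exact Or.inr ⟨⟨s, hs⟩, hsm⟩
    · rintro (⟨s, rfl⟩ | ⟨s, rfl⟩)
      · refine ⟨hM.conj_mem hm₁ _, ?_⟩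
        intro h1
        have h1' : (s : G) * m₁ * (s : G)⁻¹ = 1 := h1
        apply hm₁1
        have : m₁ = (s : G)⁻¹ * ((s : G) * m₁ * (s : G)⁻¹) * s := by group
        rw [this, h1']; group
      · refine ⟨hM.conj_mem hm₂ _, ?_⟩
        intro h1
        have h1' : (s : G) * m₂ * (s : G)⁻¹ = 1 := h1
        apply hm₂1
        have : m₂ = (s : G)⁻¹ * ((s : G) * m₂ * (s : G)⁻¹) * s := by group
        rw [this, h1']; group
  have hdisj : Disjoint (Set.range f₁) (Set.range f₂) := by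
    rw [Set.disjoint_left]
    rintro _ ⟨s, rfl⟩ ⟨s', hs'⟩
    apply hnc
    rw [isConj_iff]
    refine ⟨(s' : G)⁻¹ * s, ?_⟩
    have hs'' : (s' : G) * m₂ * (s' : G)⁻¹ = (s : G) * m₁ * (s : G)⁻¹ := hs'
    calc (s' : G)⁻¹ * s * m₁ * ((s' : G)⁻¹ * s)⁻¹
        = (s' : G)⁻¹ * ((s : G) * m₁ * (s : G)⁻¹) * s' := by group
      _ = (s' : G)⁻¹ * ((s' : G) * m₂ * (s' : G)⁻¹) * s' := by rw [hs'']
      _ = m₂ := by group
  have hc1 : (Set.range f₁).ncard = Nat.card (stabilizer G α) :=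
    Set.ncard_range_of_injective (hinj m₁ hm₁ hm₁1)
  have hc2 : (Set.range f₂).ncard = Nat.card (stabilizer G α) :=
    Set.ncard_range_of_injective (hinj m₂ hm₂ hm₂1)
  have hcM : ((M : Set G) \ {1}).ncard = Nat.card M - 1 := by
    rw [Set.ncard_sdiff_singleton_of_mem M.one_mem]
    rw [← Nat.card_coe_set_eq (M : Set G)]
    rfl
  have hcount : Nat.card M - 1 = Nat.card (stabilizer G α) + Nat.card (stabilizer G α) := by
    rw [← hcM, hunion, Set.ncard_union_eq hdisj (Set.toFinite _) (Set.toFinite _), hc1, hc2]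
  have hMΩ : Nat.card M = Nat.card Ω := hM.card_eq α
  have hMpos : 0 < Nat.card M := Nat.card_pos
  constructor
  · omega
  · omega

end Aff

end Cfsg.Agent.Lib.H4.Der
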