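import Mathlib
import Cfsg.Agent.Lib.H4.Der.Glue

set_option autoImplicit false
set_option linter.style.haveILetI false

/-!
# A derangement that is not a `p`-element when a minimal normal subgroup is nonabelian (helper4)
-/

namespace Cfsg.Agent.Lib.H4.Der

open MulAction

variable {G : Type*} [Group G] {Ω : Type*} [MulAction G Ω]

/-- a product of two distinct primes is not a prime power -/
theorem not_prime_pow_of_mul {p₁ r₁ p : ℕ} (hp₁ : p₁.Prime) (hr₁ : r₁.Prime) (hne : p₁ ≠ r₁)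
    (hp : p.Prime) : ¬ ∃ k : ℕ, p₁ * r₁ = p ^ k := by
  rintro ⟨k, hk⟩
  have h1 : p₁ ∣ p ^ k := ⟨r₁, hk.symm⟩
  have h2 : r₁ ∣ p ^ k := ⟨p₁, by rw [← hk, mul_comm]⟩
  have h3 : p₁ = p := (Nat.prime_dvd_prime_iff_eq hp₁ hp).mp (hp₁.dvd_of_dvd_pow h1)
  have h4 : r₁ = p := (Nat.prime_dvd_prime_iff_eq hr₁ hp).mp (hr₁.dvd_of_dvd_pow h2)
  exact hne (h3.trans h4.symm)

/-- commuting elements of distinct prime orders, one in a semiregular subgroup: the product is a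
derangement of composite order -/
theorem der_of_orders {B : Subgroup G} (hB : Semireg Ω B) {a b : G} (hb : b ∈ B)
    (hab : a * b = b * a) {p r : ℕ} (hp : p.Prime) (hr : r.Prime) (hpr : p ≠ r)
    (hoa : orderOf a = p) (hob : orderOf b = r) :
    IsDer Ω (a * b) ∧ orderOf (a * b) = p * r := by
  constructor
  · apply isDer_mul_of_commute hB hb hab (p := p)
    · rw [← hoa]; exact pow_orderOf_eq_one a
    · intro h
      have := orderOf_dvd_of_pow_eq_one h
      rw [hob] at this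
      exact hpr ((Nat.prime_dvd_prime_iff_eq hr hp).mp this).symm
  · have hc : Commute a b := hab
    rw [hc.orderOf_mul_eq_mul_orderOf_of_coprime, hoa, hob]
    rw [hoa, hob]
    exact (Nat.coprime_primes hp hr).mpr hpr

namespace Ctx

variable {M T : Subgroup G}

/-- the case where `T` is normal in `G` -/
theorem ppow_of_normal [Finite G] [FaithfulSMul G Ω]
    (hq : ∀ N : Subgroup G, N.Normal → N ≠ ⊥ → Trans Ω N)
    (hnas : ¬ ∃ T : Subgroup G, T.Normal ∧ IsSimpleGroup T ∧ ¬ IsMulCommutative T ∧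
      Subgroup.centralizer (T : Set G) = ⊥)
    (h : Ctx M T) (hall : ∀ g : G, cj g T = T) (p : ℕ) (hp : p.Prime) :
    ∃ d : G, IsDer Ω d ∧ ¬ ∃ k : ℕ, orderOf d = p ^ k := by
  classical
  have hTn : T.Normal := by
    constructor
    intro n hn g
    have := conj_mem_cj (g := g) hn
    rwa [hall g] at this
  have hTM : T = M := h.hM.min T hTn h.hT.ne_bot h.hT.le
  haveI hnt : Nontrivial T := (Subgroup.nontrivial_iff_ne_bot T).mpr h.hT.ne_bot
  have hsimple : IsSimpleGroup T := by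
    refine { toNontrivial := hnt, eq_bot_or_eq_top_of_normal := fun K hK => ?_ }
    by_cases hKb : K = ⊥
    · exact Or.inl hKb
    · right
      have hS : K.map T.subtype = T := by
        apply h.hT.min
        · exact Subgroup.map_subtype_le K
        · intro hb
          apply hKb
          exact (Subgroup.map_eq_bot_iff_of_injective K T.subtype_injective).mp hb
        · rintro m hm _ ⟨k, hk, rfl⟩
          have hmT : m ∈ T := hTM ▸ hm
          refine ⟨⟨m, hmT⟩ * k * ⟨m, hmT⟩⁻¹, hK.conj_mem k hk ⟨m, hmT⟩, ?_⟩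
          simp
      rw [eq_top_iff]
      intro x _
      have hx : (x : G) ∈ K.map T.subtype := by rw [hS]; exact x.2
      obtain ⟨k, hk, hkx⟩ := hx
      have : k = x := Subtype.ext hkx
      rwa [this] at hk
  have hnc : ¬ IsMulCommutative T := by
    intro hc
    apply h.T_nonab
    intro a ha b hb
    exact congrArg Subtype.val (hc.is_comm.comm ⟨a, ha⟩ ⟨b, hb⟩)
  have hB : Subgroup.centralizer (T : Set G) ≠ ⊥ := fun hb => hnas ⟨T, hTn, hsimple, hnc, hb⟩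
  have hBn : (Subgroup.centralizer (T : Set G)).Normal := by
    haveI := hTn
    exact Subgroup.normal_centralizer
  have hTt : Trans Ω T := hq T hTn h.hT.ne_bot
  have hBs : Semireg Ω (Subgroup.centralizer (T : Set G)) :=
    semireg_of_commute_trans hTt (fun a ha b hb => (Subgroup.mem_centralizer_iff.mp hb) a ha)
  have hcardB : Nat.card (Subgroup.centralizer (T : Set G)) ≠ 1 := by
    intro h1
    exact hB (Subgroup.card_eq_one.mp h1)
  obtain ⟨r, hr, hrd⟩ := Nat.exists_prime_and_dvd hcardB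
  haveI := Fact.mk hr
  obtain ⟨y, hy⟩ := exists_prime_orderOf_dvd_card' r hrd
  have hyo : orderOf (y : G) = r := by rw [Subgroup.orderOf_coe]; exact hy
  obtain ⟨p₁, q₁, hp₁, hq₁, hpq, ⟨t, ht, hto⟩, ⟨t', ht', hto'⟩⟩ := h.exists_two_primes
  by_cases hpr : p₁ = r
  · have hqr : q₁ ≠ r := fun hh => hpq (hpr.trans hh.symm)
    obtain ⟨hd, ho⟩ := der_of_orders (Ω := Ω) hBs y.2
      ((Subgroup.mem_centralizer_iff.mp y.2) t' ht') hq₁ hr hqr hto' hyo
    exact ⟨_, hd, by rw [ho]; exact not_prime_pow_of_mul hq₁ hr hqr hp⟩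
  · obtain ⟨hd, ho⟩ := der_of_orders (Ω := Ω) hBs y.2
      ((Subgroup.mem_centralizer_iff.mp y.2) t ht) hp₁ hr hpr hto hyo
    exact ⟨_, hd, by rw [ho]; exact not_prime_pow_of_mul hp₁ hr hpr hp⟩

/-- the case where `T` is semiregular and not normal -/
theorem ppow_of_semireg [Finite G] (h : Ctx M T) {g : G} (hne : cj g T ≠ T)
    (hs : Semireg Ω T) (p : ℕ) (hp : p.Prime) :
    ∃ d : G, IsDer Ω d ∧ ¬ ∃ k : ℕ, orderOf d = p ^ k := by
  have hB : Semireg Ω (cj g T) := semireg_map_conj hs g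
  obtain ⟨p₁, q₁, hp₁, hq₁, hpq, ⟨t, ht, hto⟩, ⟨t', ht', hto'⟩⟩ := h.exists_two_primes
  have hb : g * t' * g⁻¹ ∈ cj g T := conj_mem_cj ht'
  obtain ⟨hd, ho⟩ := der_of_orders (Ω := Ω) hB hb (h.commute hne ht hb) hp₁ hq₁ hpq hto
    (by rw [orderOf_conj_eq]; exact hto')
  exact ⟨_, hd, by rw [ho]; exact not_prime_pow_of_mul hp₁ hq₁ hpq hp⟩

/-- the case where `T` is neither semiregular nor normal -/
theorem ppow_of_not_semireg [Finite G] [FaithfulSMul G Ω] [Nonempty Ω] (h : Ctx M T)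
    (hMt : Trans Ω M) {g : G} (hne : cj g T ≠ T) (hs : ¬ Semireg Ω T) (p : ℕ) (hp : p.Prime) :
    ∃ d : G, IsDer Ω d ∧ ¬ ∃ k : ℕ, orderOf d = p ^ k := by
  classical
  have hTnt : ¬ Trans Ω T := by
    intro hTt
    apply hs
    have hcs : Semireg Ω (cj g T) :=
      semireg_of_commute_trans hTt (fun a ha b hb => h.commute hne ha hb)
    have h1 := semireg_map_conj hcs g⁻¹
    have h2 : (cj g T).map (MulAut.conj g⁻¹).toMonoidHom = T := cj_inv_cj g T
    rwa [h2] at h1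
  obtain ⟨α⟩ := ‹Nonempty Ω›
  haveI : Nonempty Ω := ⟨α⟩
  let H : Subgroup G :=
    { carrier := {m | m ∈ M ∧ ∃ t ∈ T, m • α = t • α}
      one_mem' := ⟨M.one_mem, 1, T.one_mem, rfl⟩
      mul_mem' := by
        rintro m₁ m₂ ⟨hm₁, t₁, ht₁, h₁⟩ ⟨hm₂, t₂, ht₂, h₂⟩
        refine ⟨M.mul_mem hm₁ hm₂, (m₁ * t₂ * m₁⁻¹) * t₁,
          T.mul_mem (h.hT.norm m₁ hm₁ t₂ ht₂) ht₁, ?_⟩
        rw [mul_smul, h₂, mul_smul, ← h₁, ← mul_smul, ← mul_smul]
        congr 1
        group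
      inv_mem' := by
        rintro m ⟨hm, t, ht, h₁⟩
        have hm' : m⁻¹ ∈ M := M.inv_mem hm
        refine ⟨hm', m⁻¹ * t⁻¹ * m⁻¹⁻¹, h.hT.norm m⁻¹ hm' t⁻¹ (T.inv_mem ht), ?_⟩
        rw [inv_inv, mul_smul, mul_smul, h₁, inv_smul_smul] }
  have hHM : H ≤ M := fun m hm => hm.1
  have hHne : H ≠ M := by
    intro hHeq
    apply hTnt
    intro a b
    obtain ⟨x, hx, rfl⟩ := hMt α a
    obtain ⟨y, hy, rfl⟩ := hMt α b
    have hmem : x⁻¹ * y ∈ H := by
      rw [hHeq]; exact M.mul_mem (M.inv_mem hx) hy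
    obtain ⟨_, t, ht, h₁⟩ := hmem
    refine ⟨x * t * x⁻¹, h.hT.norm x hx t ht, ?_⟩
    rw [mul_smul, inv_smul_smul, mul_smul, ← h₁, mul_smul, smul_inv_smul]
  obtain ⟨g₁, hg₁M, hg₁⟩ := exists_mem_not_mem_conj H M hHM hHne
  have hder : ∀ t ∈ T, IsDer Ω (t * g₁) := by
    intro t ht ω hω
    obtain ⟨x, hx, rfl⟩ := hMt α ω
    apply hg₁ x hx
    refine ⟨M.mul_mem (M.mul_mem (M.inv_mem hx) hg₁M) hx, x⁻¹ * t⁻¹ * x⁻¹⁻¹,
      h.hT.norm x⁻¹ (M.inv_mem hx) t⁻¹ (T.inv_mem ht), ?_⟩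
    rw [inv_inv, mul_smul, mul_smul, mul_smul, mul_smul]
    congr 1
    rw [mul_smul] at hω
    rw [eq_inv_smul_iff]
    exact hω
  obtain ⟨t₀, ht₀, c, hc, hg₁eq⟩ := h.decomp hg₁M
  have hder' : ∀ t ∈ T, IsDer Ω (t * c) := by
    intro t ht
    have := hder (t * t₀⁻¹) (T.mul_mem ht (T.inv_mem ht₀))
    rw [hg₁eq] at this
    have h2 : t * t₀⁻¹ * (t₀ * c) = t * c := by group
    rwa [h2] at this
  obtain ⟨p₁, q₁, hp₁, hq₁, hpq, ⟨t, ht, hto⟩, ⟨t', ht', hto'⟩⟩ := h.exists_two_primes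
  -- an element `s ∈ T` of prime order `≠ p`
  obtain ⟨s, hs, r, hr, hrp, hso⟩ : ∃ s ∈ T, ∃ r : ℕ, r.Prime ∧ r ≠ p ∧ orderOf s = r := by
    by_cases hpp : p₁ = p
    · exact ⟨t', ht', q₁, hq₁, fun hh => hpq (hpp.trans hh.symm), hto'⟩
    · exact ⟨t, ht, p₁, hp₁, hpp, hto⟩
  refine ⟨s * c, hder' s hs, ?_⟩
  rintro ⟨k, hk⟩
  have hcomm : Commute s c := (mem_cen.mp hc).2 s hs
  have hpow : (s * c) ^ (p ^ k) = 1 := by rw [← hk]; exact pow_orderOf_eq_one _
  rw [hcomm.mul_pow] at hpow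
  have hsk : s ^ (p ^ k) = (c ^ (p ^ k))⁻¹ := eq_inv_of_mul_eq_one_left hpow
  have hmemc : s ^ (p ^ k) ∈ cen M T := by
    rw [hsk]; exact Subgroup.inv_mem _ (Subgroup.pow_mem _ hc _)
  have h1 : s ^ (p ^ k) = 1 := h.inter_cen (T.pow_mem hs _) hmemc
  have hdvd := orderOf_dvd_of_pow_eq_one h1
  rw [hso] at hdvd
  exact hrp ((Nat.prime_dvd_prime_iff_eq hr hp).mp (hr.dvd_of_dvd_pow hdvd))

/-- **Main theorem.** -/
theorem exists_der_not_ppow [Finite G] [FaithfulSMul G Ω] [Nonempty Ω]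
    (hq : ∀ N : Subgroup G, N.Normal → N ≠ ⊥ → Trans Ω N)
    (hnas : ¬ ∃ T : Subgroup G, T.Normal ∧ IsSimpleGroup T ∧ ¬ IsMulCommutative T ∧
      Subgroup.centralizer (T : Set G) = ⊥)
    (h : Ctx M T) (p : ℕ) (hp : p.Prime) :
    ∃ d : G, IsDer Ω d ∧ ¬ ∃ k : ℕ, orderOf d = p ^ k := by
  by_cases hall : ∀ g : G, cj g T = T
  · exact h.ppow_of_normal hq hnas hall p hp
  · push Not at hall
    obtain ⟨g, hne⟩ := hall
    by_cases hs : Semireg Ω T
    · exact h.ppow_of_semireg hne hs p hp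
    · exact h.ppow_of_not_semireg (hq M h.hM.normal h.hM.ne_bot) hne hs p hp

end Ctx

/-- an abelian minimal normal subgroup has prime exponent -/
theorem MinNormal.exists_prime_exponent [Finite G] {M : Subgroup G} (hM : MinNormal M)
    (hc : ∀ a ∈ M, ∀ b ∈ M, a * b = b * a) : ∃ r : ℕ, r.Prime ∧ ∀ a ∈ M, a ^ r = 1 := by
  classical
  have hcard : Nat.card M ≠ 1 := fun h1 => hM.ne_bot (Subgroup.card_eq_one.mp h1)
  obtain ⟨r, hr, hrd⟩ := Nat.exists_prime_and_dvd hcard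
  haveI := Fact.mk hr
  obtain ⟨y, hy⟩ := exists_prime_orderOf_dvd_card' r hrd
  refine ⟨r, hr, ?_⟩
  let K : Subgroup G :=
    { carrier := {m | m ∈ M ∧ m ^ r = 1}
      one_mem' := ⟨M.one_mem, one_pow _⟩
      mul_mem' := by
        rintro a b ⟨ha, har⟩ ⟨hb, hbr⟩
        refine ⟨M.mul_mem ha hb, ?_⟩
        have hcm : Commute a b := hc a ha b hb
        rw [hcm.mul_pow, har, hbr, one_mul]
      inv_mem' := by
        rintro a ⟨ha, har⟩
        exact ⟨M.inv_mem ha, by rw [inv_pow, har, inv_one]⟩ }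
  have hKn : K.Normal := by
    constructor
    rintro n ⟨hn, hnr⟩ g
    refine ⟨hM.normal.conj_mem n hn g, ?_⟩
    rw [conj_pow, hnr]
    group
  have hKb : K ≠ ⊥ := by
    intro hb
    have hyK : (y : G) ∈ K := by
      refine ⟨y.2, ?_⟩
      have : (y : G) ^ r = ((y ^ r : M) : G) := by simp
      rw [this, ← hy, pow_orderOf_eq_one]
      rfl
    rw [hb, Subgroup.mem_bot] at hyK
    have hy1 : y = 1 := Subtype.ext hyK
    rw [hy1, orderOf_one] at hy
    exact hr.one_lt.ne hy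
  have hKM : K = M := hM.min K hKn hKb (fun m hm => hm.1)
  intro a ha
  have : a ∈ K := hKM ▸ ha
  exact this.2

end Cfsg.Agent.Lib.H4.Der
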