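import Mathlib
import Cfsg.Agent.Lib.H4.Der.Cases

set_option autoImplicit false
set_option linter.style.haveILetI false

/-!
# Sharply 2-transitive groups have a single class of derangements (helper4)
-/

namespace Cfsg.Agent.Lib.H4.Der

open MulAction

variable {G : Type*} [Group G] {Ω : Type*} [MulAction G Ω]

/-- In a transitive group in which nonidentity elements fix at most one point there are exactly
`|Ω| - 1` derangements. -/
theorem ncard_der_of_sharp [Finite G] [Finite Ω] [IsPretransitive G Ω] [Nonempty Ω]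
    (hfix : ∀ g : G, g ≠ 1 → ∀ a b : Ω, g • a = a → g • b = b → a = b) :
    {g : G | IsDer Ω g}.ncard = Nat.card Ω - 1 := by
  classical
  haveI := Fintype.ofFinite G
  haveI := Fintype.ofFinite Ω
  haveI : ∀ h : G, Fintype (fixedBy Ω h) := fun h => Fintype.ofFinite _
  haveI : Fintype (Quotient (orbitRel G Ω)) := Fintype.ofFinite _
  have hB := MulAction.sum_card_fixedBy_eq_card_orbits_mul_card_group G Ω
  have h1 : Fintype.card (Quotient (orbitRel G Ω)) = 1 := by
    have hs : Subsingleton (orbitRel.Quotient G Ω) :=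
      (MulAction.pretransitive_iff_subsingleton_quotient G Ω).mp inferInstance
    have hn : Nonempty (orbitRel.Quotient G Ω) := ⟨Quotient.mk'' (Classical.arbitrary Ω)⟩
    exact Fintype.card_eq_one_iff.mpr ⟨Classical.arbitrary _, fun y => hs.elim _ _⟩
  rw [h1, one_mul] at hB
  have hone : Fintype.card (fixedBy Ω (1 : G)) = Fintype.card Ω := by
    apply Fintype.card_of_subtype
    intro x
    simp
  have hval : ∀ g : G, g ≠ 1 →
      Fintype.card (fixedBy Ω g) = if ¬ IsDer Ω g then 1 else 0 := by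
    intro g hg
    by_cases hd : IsDer Ω g
    · rw [if_neg (not_not.mpr hd), Fintype.card_eq_zero_iff]
      exact ⟨fun ⟨ω, hω⟩ => hd ω hω⟩
    · rw [if_pos hd]
      unfold IsDer at hd
      push Not at hd
      obtain ⟨ω, hω⟩ := hd
      rw [Fintype.card_eq_one_iff]
      exact ⟨⟨ω, hω⟩, fun ⟨ω', hω'⟩ => Subtype.ext (hfix g hg _ _ hω' hω)⟩
  have hsum : ∑ g : G, Fintype.card (fixedBy Ω g) =
      Fintype.card (fixedBy Ω (1 : G)) +
        ∑ g ∈ Finset.univ.erase (1 : G), Fintype.card (fixedBy Ω g) :=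
    (Finset.add_sum_erase Finset.univ (fun g : G => Fintype.card (fixedBy Ω g))
      (Finset.mem_univ (1 : G))).symm
  have hrest : ∑ g ∈ Finset.univ.erase (1 : G), Fintype.card (fixedBy Ω g) =
      ((Finset.univ.erase (1 : G)).filter (fun g => ¬ IsDer Ω g)).card := by
    rw [Finset.sum_congr rfl (fun g hg => hval g (Finset.ne_of_mem_erase hg))]
    rw [Finset.sum_boole]
    simp
  have hsplit := Finset.card_filter_add_card_filter_not (s := Finset.univ.erase (1 : G))
    (fun g => IsDer Ω g)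
  have hcard : (Finset.univ.erase (1 : G)).card = Fintype.card G - 1 := by
    rw [Finset.card_erase_of_mem (Finset.mem_univ _), Finset.card_univ]
  have hfilt : (Finset.univ.erase (1 : G)).filter (fun g => IsDer Ω g) =
      Finset.univ.filter (fun g => IsDer Ω g) := by
    ext g
    simp only [Finset.mem_filter, Finset.mem_erase, Finset.mem_univ, and_true, true_and,
      and_iff_right_iff_imp]
    exact fun hg => hg.ne_one
  have hD : {g : G | IsDer Ω g}.ncard = (Finset.univ.filter (fun g : G => IsDer Ω g)).card := by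
    rw [← Set.ncard_coe_finset]
    congr 1
    ext g
    simp
  have hG : 1 ≤ Fintype.card G := Fintype.card_pos
  have hΩ : Fintype.card Ω = Nat.card Ω := (Nat.card_eq_fintype_card).symm
  rw [hsum, hone, hrest] at hB
  rw [hfilt] at hsplit
  rw [hD]
  omega

/-- **Sharply 2-transitive groups have one class of derangements.** -/
theorem card_derClass_of_sharp [Finite G] [Finite Ω] (h2 : 2 ≤ Nat.card Ω)
    (h2t : IsMultiplyPretransitive G Ω 2)
    (hsharp : ∀ g : G, g ≠ 1 → ∀ a b : Ω, a ≠ b → g • a = a → g • b ≠ b) :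
    Nat.card (DerClass (G := G) Ω) = 1 := by
  classical
  haveI := h2t
  haveI : IsPretransitive G Ω := isPretransitive_of_is_two_pretransitive
  haveI : Nonempty Ω := by
    rw [← Finite.card_pos_iff]; omega
  have hfix : ∀ g : G, g ≠ 1 → ∀ a b : Ω, g • a = a → g • b = b → a = b := by
    intro g hg a b ha hb
    by_contra hab
    exact hsharp g hg a b hab ha hb
  have hDcard := ncard_der_of_sharp (G := G) (Ω := Ω) hfix
  obtain ⟨α⟩ := ‹Nonempty Ω›
  -- a second point
  obtain ⟨β, hβ⟩ : ∃ β : Ω, β ≠ α := by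
    by_contra hcon
    push Not at hcon
    have : Subsingleton Ω := ⟨fun a b => (hcon a).trans (hcon b).symm⟩
    have := Finite.card_le_one_iff_subsingleton.mpr this
    omega
  -- the stabilizer has at least `n - 1` elements
  have hstab : Nat.card Ω - 1 ≤ Nat.card (stabilizer G α) := by
    have hφ : ∀ h : stabilizer G α, (h : G) • β ≠ α := by
      intro h hh
      have h1 : (h : G) • α = α := h.2
      exact hβ (smul_left_cancel _ (hh.trans h1.symm))
    let φ : stabilizer G α → {ω : Ω // ω ≠ α} := fun h => ⟨(h : G) • β, hφ h⟩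
    have hsurj : Function.Surjective φ := by
      rintro ⟨ω, hω⟩
      obtain ⟨g, hgα, hgβ⟩ := (is_two_pretransitive_iff.mp h2t) (Ne.symm hβ) (Ne.symm hω)
      exact ⟨⟨g, hgα⟩, Subtype.ext hgβ⟩
    have hle := Nat.card_le_card_of_surjective φ hsurj
    have hcompl : Nat.card {ω : Ω // ω ≠ α} = Nat.card Ω - 1 := by
      have h1 : {ω : Ω | ω ≠ α} = (Set.univ : Set Ω) \ {α} := by
        ext ω; simp
      have h2 : Nat.card {ω : Ω // ω ≠ α} = ({ω : Ω | ω ≠ α}).ncard :=
        Nat.card_coe_set_eq _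
      rw [h2, h1, Set.ncard_sdiff_singleton_of_mem (Set.mem_univ α), Set.ncard_univ]
    omega
  -- conjugation maps
  have hconjAll : ∀ d d' : G, IsDer Ω d → IsDer Ω d' → IsConj d d' := by
    intro d d' hd hd'
    have hinj : Function.Injective (fun h : stabilizer G α => (h : G) * d * (h : G)⁻¹) := by
      intro h h' hh
      have hh' : (h : G) * d * (h : G)⁻¹ = (h' : G) * d * (h' : G)⁻¹ := hh
      have hcomm : ((h' : G)⁻¹ * h) * d = d * ((h' : G)⁻¹ * h) := by
        calc ((h' : G)⁻¹ * h) * d = (h' : G)⁻¹ * ((h : G) * d * (h : G)⁻¹) * h := by group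
          _ = (h' : G)⁻¹ * ((h' : G) * d * (h' : G)⁻¹) * h := by rw [hh']
          _ = d * ((h' : G)⁻¹ * h) := by group
      have hcα : ((h' : G)⁻¹ * h) • α = α := by
        have h1 : (h : G) • α = α := h.2
        have h2 : (h' : G) • α = α := h'.2
        rw [mul_smul, h1, inv_smul_eq_iff, h2]
      have hcdα : ((h' : G)⁻¹ * h) • (d • α) = d • α := by
        rw [← mul_smul, hcomm, mul_smul, hcα]
      have hc1 : (h' : G)⁻¹ * h = 1 := by
        by_contra hne
        exact hsharp _ hne α (d • α) (fun hh => hd α hh.symm) hcα hcdα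
      apply Subtype.ext
      exact (inv_mul_eq_one.mp hc1).symm
    have hsub : Set.range (fun h : stabilizer G α => (h : G) * d * (h : G)⁻¹) ⊆
        {g : G | IsDer Ω g} := by
      rintro _ ⟨h, rfl⟩
      exact isDer_conj _ hd
    have hcard : (Set.range (fun h : stabilizer G α => (h : G) * d * (h : G)⁻¹)).ncard =
        Nat.card (stabilizer G α) := Set.ncard_range_of_injective hinj
    have heq := Set.eq_of_subset_of_ncard_le hsub (by rw [hcard, hDcard]; exact hstab)
      (Set.toFinite _)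
    have hd'mem : d' ∈ {g : G | IsDer Ω g} := hd'
    rw [← heq] at hd'mem
    obtain ⟨h, hh⟩ := hd'mem
    exact isConj_iff.mpr ⟨h, hh⟩
  obtain ⟨d₀, hd₀⟩ := exists_der_of_pretransitive (H := G) (X := Ω) h2
  rw [Nat.card_eq_one_iff_unique]
  refine ⟨⟨?_⟩, ⟨⟨ConjClasses.mk d₀, d₀, rfl, hd₀⟩⟩⟩
  rintro ⟨_, d, rfl, hd⟩ ⟨_, d', rfl, hd'⟩
  apply Subtype.ext
  exact ConjClasses.mk_eq_mk_iff_isConj.mpr (hconjAll d d' hd hd')

namespace Aff

variable {M : Subgroup G} (hM : Aff Ω M)
include hM

/-- an affine group with a single class of derangements is sharply 2-transitive -/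
theorem sharp_of_card_eq_one [Finite G] (hb : M ≠ ⊥) (α : Ω)
    (hκ : Nat.card (DerClass (G := G) Ω) = 1) :
    IsMultiplyPretransitive G Ω 2 ∧
      ∀ g : G, g ≠ 1 → ∀ a b : Ω, a ≠ b → g • a = a → g • b ≠ b := by
  obtain ⟨m₀, hm₀, hm₀1⟩ : ∃ m ∈ M, m ≠ 1 := by
    by_contra hcon
    push Not at hcon
    apply hb
    rw [eq_bot_iff]
    intro x hx
    rw [Subgroup.mem_bot]
    exact hcon x hx
  have hd₀ : IsDer Ω m₀ := hM.isDer_of_mem hm₀ hm₀1
  have hD : ∀ d : G, IsDer Ω d → d ∈ M := by
    intro d hd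
    exact mem_of_isConj hM.normal hm₀ (isConj_of_card_le_one hκ.le hd hd₀)
  have hconj : ∀ m ∈ M, ∀ m' ∈ M, m ≠ 1 → m' ≠ 1 → IsConj m m' := by
    intro m hm m' hm' hm1 hm'1
    exact isConj_of_card_le_one hκ.le (hM.isDer_of_mem hm hm1) (hM.isDer_of_mem hm' hm'1)
  refine ⟨hM.two_pretransitive hconj, ?_⟩
  intro g hg a b hab hga hgb
  by_cases hgM : g ∈ M
  · exact hg (hM.semireg g hgM a hga)
  · exact hab (hM.fixed_unique (hM.cent_trivial α hD hgM) hga hgb)

end Aff

end Cfsg.Agent.Lib.H4.Der
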